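import Groth.Agent.FlatMorLocalStr.SmoothGenerisation
import Groth.Agent.FlatMorSection.Constructible

/-!
# Section components of smooth affine morphisms are open
-/

set_option autoImplicit false
set_option backward.isDefEq.respectTransparency false

universe u

open AlgebraicGeometry CategoryTheory Limits TensorProduct

namespace Groth.Agent.FlatMorLocalStr

open FlatMorSection

theorem mem_sectionComponents_of_le {A B : Type u} [CommRing A] [CommRing B] [Algebra A B]
    [Algebra.Smooth A B] (σ : B →ₐ[A] A) (q' q : PrimeSpectrum B) (h : q'.asIdeal ≤ q.asIdeal)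
    (hq : q ∈ MoreMor.sectionComponents (Spec.map (CommRingCat.ofHom (algebraMap A B)))
      (Spec.map (CommRingCat.ofHom σ.toRingHom))) :
    q' ∈ MoreMor.sectionComponents (Spec.map (CommRingCat.ofHom (algebraMap A B)))
      (Spec.map (CommRingCat.ofHom σ.toRingHom)) := by
  obtain ⟨V, l, hlm, hl0⟩ := exists_valuation q'.asIdeal q.asIdeal h
  let W : Type u := V
  let _ : Algebra A W := ((l.comp (algebraMap A B)) : A →+* V).toAlgebra
  let l' : B →ₐ[A] W := { l with commutes' := fun a => rfl }
  let s' : B →ₐ[A] W := (Algebra.ofId A W).comp σ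
  let ls : W ⊗[A] B →ₐ[W] W := Algebra.TensorProduct.lift (AlgHom.id W W) l' fun _ _ => .all _ _
  let ss : W ⊗[A] B →ₐ[W] W := Algebra.TensorProduct.lift (AlgHom.id W W) s' fun _ _ => .all _ _
  let g' : Spec (CommRingCat.of (W ⊗[A] B)) ⟶ Spec (CommRingCat.of B) :=
    Spec.map (CommRingCat.ofHom (Algebra.TensorProduct.includeRight (R := A) (A := W) (B := B)).toRingHom)
  let g : Spec (CommRingCat.of W) ⟶ Spec (CommRingCat.of A) :=
    Spec.map (CommRingCat.ofHom (algebraMap A W))
  let f' : Spec (CommRingCat.of (W ⊗[A] B)) ⟶ Spec (CommRingCat.of W) :=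
    Spec.map (CommRingCat.ofHom (algebraMap W (W ⊗[A] B)))
  have hc : IsPullback g' f' (Spec.map (CommRingCat.ofHom (algebraMap A B))) g :=
    (isPullback_SpecMap_of_isPushout _ _ _ _ (CommRingCat.isPushout_tensorProduct A W B)).flip
  have hbc := sectionComponents_baseChange (Spec.map (CommRingCat.ofHom (algebraMap A B)))
    (Spec.map (CommRingCat.ofHom σ.toRingHom))
    (by
      rw [← Spec.map_comp, ← CommRingCat.ofHom_comp, ← Spec.map_id]
      congr 1
      ext a
      exact σ.commutes a)
    f' g' g hc (Spec.map (CommRingCat.ofHom ss.toRingHom))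
    (by
      rw [← Spec.map_comp, ← CommRingCat.ofHom_comp, ← Spec.map_id]
      congr 1
      ext a
      exact congrArg Subtype.val (ss.commutes a))
    (by
      simp only [g', g, ← Spec.map_comp, ← CommRingCat.ofHom_comp]
      congr 2
      ext b
      simp [ss, s'])
  let Q : PrimeSpectrum W → PrimeSpectrum (W ⊗[A] B) := PrimeSpectrum.comap ls.toRingHom
  have hQ : ∀ w : PrimeSpectrum W, g' (Q w) = PrimeSpectrum.comap l w := fun w => by
    refine PrimeSpectrum.ext (Ideal.ext fun b => ?_)
    show ls (1 ⊗ₜ b) ∈ w.asIdeal ↔ l b ∈ w.asIdeal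
    simp [ls, l']
    rfl
  have hf : ∀ w : PrimeSpectrum W, f' (Q w) = w := fun w => by
    refine PrimeSpectrum.ext (Ideal.ext fun b => ?_)
    show ls (algebraMap W _ b) ∈ w.asIdeal ↔ b ∈ w.asIdeal
    rw [AlgHom.commutes]
    rfl
  have h1 : Q (IsLocalRing.closedPoint W) ∈
      MoreMor.sectionComponents f' (Spec.map (CommRingCat.ofHom ss.toRingHom)) := by
    rw [hbc]
    refine (Set.mem_preimage (f := ⇑g')).2 ?_
    rw [hQ]
    have e : PrimeSpectrum.comap l (IsLocalRing.closedPoint W) = q := PrimeSpectrum.ext hlm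
    rw [e]
    exact hq
  have h2 : Q ⟨⊥, Ideal.isPrime_bot⟩ ∈
      MoreMor.sectionComponents f' (Spec.map (CommRingCat.ofHom ss.toRingHom)) := by
    have := connected_generic_of_connected_special (W := W) ls ss ?_
    · show _ ∈ connectedComponentIn _ _
      rw [hf]
      exact this
    · have h' := h1
      change _ ∈ connectedComponentIn _ _ at h'
      rw [hf] at h'
      exact h'
  rw [hbc] at h2
  replace h2 := (Set.mem_preimage (f := ⇑g')).1 h2
  rw [hQ] at h2
  have e : PrimeSpectrum.comap l ⟨⊥, Ideal.isPrime_bot⟩ = q' := PrimeSpectrum.ext hl0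
  rwa [e] at h2

/-- Section components of a smooth affine morphism over an affine base are open. -/
theorem isOpen_sectionComponents_specMap {A B : Type u} [CommRing A] [CommRing B] [Algebra A B]
    [Algebra.Smooth A B] (σ : B →ₐ[A] A) :
    IsOpen (MoreMor.sectionComponents (Spec.map (CommRingCat.ofHom (algebraMap A B)))
      (Spec.map (CommRingCat.ofHom σ.toRingHom))) := by
  have hs : Spec.map (CommRingCat.ofHom σ.toRingHom) ≫
      Spec.map (CommRingCat.ofHom (algebraMap A B)) = 𝟙 _ := by
    rw [← Spec.map_comp, ← CommRingCat.ofHom_comp, ← Spec.map_id]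
    congr 1
    ext a
    exact σ.commutes a
  have : LocallyOfFinitePresentation (Spec.map (CommRingCat.ofHom (algebraMap A B))) := by
    rw [HasRingHomProperty.Spec_iff (P := @LocallyOfFinitePresentation)]
    exact RingHom.finitePresentation_algebraMap.2 inferInstance
  refine PrimeSpectrum.isOpen_of_stableUnderGeneralization_of_isConstructible
    (fun q q' hqq' hq => mem_sectionComponents_of_le σ q' q
      ((PrimeSpectrum.le_iff_specializes q' q).2 hqq') hq) ?_
  exact (isLocallyConstructible_sectionComponents _ _ hs).isConstructible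

/-- Section components of a smooth morphism of affine schemes are open. -/
theorem isOpen_sectionComponents_of_smooth {P Z : Scheme.{u}} [IsAffine P] [IsAffine Z] (f : P ⟶ Z)
    [Smooth f] (s : Z ⟶ P) (hs : s ≫ f = 𝟙 Z) :
    IsOpen (MoreMor.sectionComponents f s) := by
  have hf : f.appTop.hom.Smooth := HasRingHomProperty.appTop @Smooth f inferInstance
  algebraize [f.appTop.hom]
  let σ : Γ(P, ⊤) →ₐ[Γ(Z, ⊤)] Γ(Z, ⊤) :=
    { s.appTop.hom with
      commutes' := fun a => by
        show (f.appTop ≫ s.appTop).hom a = a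
        rw [← Scheme.Hom.comp_appTop, hs]
        rfl }
  have hσ : CommRingCat.ofHom σ.toRingHom = s.appTop := by ext; rfl
  have ha : CommRingCat.ofHom (algebraMap Γ(Z, ⊤) Γ(P, ⊤)) = f.appTop := by ext; rfl
  have h := isOpen_sectionComponents_specMap σ
  have hc : IsPullback P.isoSpec.hom f (Spec.map f.appTop) Z.isoSpec.hom :=
    IsPullback.of_horiz_isIso ⟨Scheme.isoSpec_hom_naturality f⟩
  rw [sectionComponents_baseChange (Spec.map f.appTop) (Spec.map s.appTop)
    (by rw [← Spec.map_comp, ← Scheme.Hom.comp_appTop, hs]; simp) f P.isoSpec.hom Z.isoSpec.hom hc s hs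
    (Scheme.isoSpec_hom_naturality s).symm]
  rw [← ha, ← hσ]
  exact h.preimage P.isoSpec.hom.continuous

end Groth.Agent.FlatMorLocalStr
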