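import Groth.Agent.NeronLib.NormalSmooth
import Groth.Agent.FlatMorLocalStr.SmoothOpen

/-!
# Smooth schemes over fields and geometrically integral fibres
-/

set_option autoImplicit false
set_option backward.isDefEq.respectTransparency false

universe u

open AlgebraicGeometry CategoryTheory Limits TopologicalSpace

namespace Groth.Agent.FlatMorLocalStr

variable {K : Type u} [Field K] {X : Scheme.{u}} (p : X ⟶ Spec (CommRingCat.of K)) [Smooth p]

include p

theorem isNormalScheme_of_smooth_field : Pi1.IsNormalScheme X := by
  refine NeronLib.isNormalScheme_of_smooth p fun x => ?_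
  have hle := Ideal.primeCompl_le_nonZeroDivisors (x : PrimeSpectrum K).asIdeal
  exact ⟨IsLocalization.isDomain_of_le_nonZeroDivisors
      ((Spec.structureSheaf K).presheaf.stalk x) hle,
    isIntegrallyClosed_of_isLocalization ((Spec.structureSheaf K).presheaf.stalk x)
      (x : PrimeSpectrum K).asIdeal.primeCompl hle⟩

theorem isReduced_of_smooth_field : IsReduced X :=
  NeronLib.isReduced_of_normal (isNormalScheme_of_smooth_field p)

theorem connectedComponent_eq_irreducibleComponent (x : X) :
    connectedComponent x = irreducibleComponent x := by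
  have := LocallyOfFiniteType.isLocallyNoetherian p
  refine Set.Subset.antisymm (IsClopen.connectedComponent_subset
    ⟨isClosed_irreducibleComponent, NeronLib.isOpen_component_of_normal
      (isNormalScheme_of_smooth_field p) (irreducibleComponent_mem_irreducibleComponents x)⟩
    mem_irreducibleComponent) ?_
  exact isIrreducible_irreducibleComponent.isConnected.subset_connectedComponent
    mem_irreducibleComponent

theorem isIrreducible_connectedComponent (x : X) : IsIrreducible (connectedComponent x) := by
  rw [connectedComponent_eq_irreducibleComponent p]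
  exact isIrreducible_irreducibleComponent

theorem isOpen_connectedComponent_of_smooth_field (x : X) : IsOpen (connectedComponent x) := by
  have := LocallyOfFiniteType.isLocallyNoetherian p
  rw [connectedComponent_eq_irreducibleComponent p]
  exact NeronLib.isOpen_component_of_normal
      (isNormalScheme_of_smooth_field p) (irreducibleComponent_mem_irreducibleComponents x)

end Groth.Agent.FlatMorLocalStr

namespace Groth.Agent.FlatMorLocalStr

/-- An open of a smooth scheme lying, after a surjective base change `Z → S'`, in the components of a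
section, has geometrically integral fibres. -/
theorem geometricallyIntegral_of_subset_sectionComponents {P Z Y' S' : Scheme.{u}} (p : P ⟶ Z)
    (q : P ⟶ Y') (h : Y' ⟶ S') (b : Z ⟶ S') (hsq : IsPullback q p h b) [Smooth h] [Surjective b]
    (σ : Z ⟶ P) (hσ : σ ≫ p = 𝟙 Z) (W : Y'.Opens)
    (hW : q ⁻¹' (W : Set Y') ⊆ MoreMor.sectionComponents p σ) (A : S'.Opens) (h' : W.toScheme ⟶ A.toScheme)
    (hA : h' ≫ A.ι = W.ι ≫ h) [Surjective h'] :
    GeometricallyIntegral h' := by
  refine ⟨fun K _ x₀ WK fst snd hWK₀ => ?_⟩
  let x := x₀ ≫ A.ι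
  have hid : IsPullback (𝟙 W.toScheme) h' (W.ι ≫ h) A.ι := by
    refine ⟨⟨by rw [Category.id_comp, hA]⟩, ⟨PullbackCone.IsLimit.mk _ (fun c => c.fst) (fun c => by simp)
      (fun c => ?_) (fun c m h1 _ => by simpa using h1)⟩⟩
    rw [← cancel_mono A.ι, Category.assoc, hA]
    exact c.condition
  have hWK : IsPullback fst snd (W.ι ≫ h) x := by
    simpa [x] using hWK₀.paste_horiz hid
  have hsurj : Surjective snd := MorphismProperty.of_isPullback hWK₀ inferInstance
  -- a field over `K` with a point of `Z`
  have hbS : Surjective (pullback.snd b x) := MorphismProperty.pullback_snd _ _ inferInstance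
  obtain ⟨ξ, -⟩ := hbS.surj (IsLocalRing.closedPoint K)
  let M := pullback b x
  let K' := M.residueField ξ
  let ζ : Spec K' ⟶ Z := M.fromSpecResidueField ξ ≫ pullback.fst b x
  let τ : Spec K' ⟶ Spec (CommRingCat.of K) := M.fromSpecResidueField ξ ≫ pullback.snd b x
  have hζ : ζ ≫ b = τ ≫ x := by simp [ζ, τ, pullback.condition]
  have : Subsingleton (Spec (CommRingCat.of K)) := inferInstanceAs (Subsingleton (PrimeSpectrum K))
  have : Subsingleton (Spec K') := inferInstanceAs (Subsingleton (PrimeSpectrum K'))
  have : Surjective τ := ⟨fun z => ⟨IsLocalRing.closedPoint K', Subsingleton.elim _ _⟩⟩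
  -- the fibre over `K'`
  let F := pullback p ζ
  have hF : IsPullback (pullback.fst p ζ ≫ q) (pullback.snd p ζ) h (ζ ≫ b) :=
    (IsPullback.of_hasPullback p ζ).paste_horiz hsq
  have : Smooth (pullback.snd p ζ) := MorphismProperty.of_isPullback hF inferInstance
  let WK' := pullback (W.ι ≫ h) (τ ≫ x)
  let j : WK' ⟶ F := hF.lift (pullback.fst _ _ ≫ W.ι) (pullback.snd _ _) (by
    rw [Category.assoc, pullback.condition, hζ])
  have hj : IsPullback (pullback.fst _ _) j W.ι (pullback.fst p ζ ≫ q) := by
    refine IsPullback.of_bot ?_ (hF.lift_fst _ _ _).symm hF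
    rw [hF.lift_snd]
    convert IsPullback.of_hasPullback (W.ι ≫ h) (τ ≫ x) using 1
  have : IsOpenImmersion j := MorphismProperty.of_isPullback hj inferInstance
  let σF : Spec K' ⟶ F := pullback.lift (ζ ≫ σ) (𝟙 _) (by
    rw [Category.assoc, hσ, Category.comp_id, Category.id_comp])
  have hbc := FlatMorSection.sectionComponents_baseChange p σ hσ (pullback.snd p ζ)
    (pullback.fst p ζ) ζ (IsPullback.of_hasPullback p ζ) σF (pullback.lift_snd _ _ _)
    (pullback.lift_fst _ _ _)
  have huniv : ∀ z : Spec K', (pullback.snd p ζ) ⁻¹' {z} = Set.univ := fun z =>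
    Set.eq_univ_of_forall fun y => Subsingleton.elim (α := ↥(Spec K')) _ _
  have hsub : Set.range j ⊆ connectedComponent (σF (IsLocalRing.closedPoint K')) := by
    rintro _ ⟨w, rfl⟩
    have h1 : j w ∈ MoreMor.sectionComponents (pullback.snd p ζ) σF := by
      rw [hbc]
      refine hW ?_
      show q (pullback.fst p ζ (j w)) ∈ W
      rw [← Scheme.Hom.comp_apply, ← Scheme.Hom.comp_apply, ← hj.w]
      exact (pullback.fst (W.ι ≫ h) (τ ≫ x) w).2
    change _ ∈ connectedComponentIn _ _ at h1
    rw [huniv, connectedComponentIn_univ] at h1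
    convert h1
    exact Subsingleton.elim (α := ↥(Spec K')) _ _
  have : Surjective (pullback.snd (W.ι ≫ h) (τ ≫ x)) := by
    refine ⟨fun z => ?_⟩
    obtain ⟨w, -⟩ := hsurj.surj (τ z)
    have hw : (W.ι ≫ h) (fst w) = (τ ≫ x) z := by
      rw [← Scheme.Hom.comp_apply, hWK.w, Scheme.Hom.comp_apply, Scheme.Hom.comp_apply τ x]
      exact congrArg x (Subsingleton.elim (α := ↥(Spec (CommRingCat.of K))) _ _)
    obtain ⟨t, -, ht⟩ := Scheme.Pullback.exists_preimage_pullback (fst w) z hw
    exact ⟨t, ht⟩
  have : Nonempty WK' := ⟨(Surjective.surj (f := pullback.snd (W.ι ≫ h) (τ ≫ x))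
    (IsLocalRing.closedPoint K')).choose⟩
  have hpre : IsPreirreducible (Set.univ : Set WK') := by
    have h1 : IsPreirreducible (Set.range j) := by
      have := isIrreducible_connectedComponent (pullback.snd p ζ) (σF (IsLocalRing.closedPoint K'))
      exact this.2.open_subset j.opensRange.2 hsub
    have h2 := h1.preimage j.isOpenEmbedding
    rwa [Set.preimage_range] at h2
  have : IrreducibleSpace WK' :=
    { isPreirreducible_univ := hpre, toNonempty := inferInstance }
  -- descend irreducibility
  have : Smooth snd := MorphismProperty.of_isPullback hWK inferInstance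
  have : IsReduced WK := isReduced_of_smooth_field snd
  let π : WK' ⟶ WK := hWK.lift (pullback.fst _ _) (pullback.snd _ _ ≫ τ) (by
    exact pullback.condition.trans (Category.assoc _ _ _).symm)
  have hπ : IsPullback π (pullback.snd (W.ι ≫ h) (τ ≫ x)) snd τ := by
    refine IsPullback.of_right ?_ (hWK.lift_snd _ _ _) hWK
    rw [hWK.lift_fst]
    exact IsPullback.of_hasPullback _ _
  have : Surjective π := MorphismProperty.of_isPullback hπ.flip inferInstance
  have : IrreducibleSpace WK := Function.Surjective.irreducibleSpace π.continuous π.surjective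
  exact isIntegral_of_irreducibleSpace_of_isReduced _

end Groth.Agent.FlatMorLocalStr
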