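import Groth.Agent.EGA43.FibDepth.FibreDim
import Groth.Agent.EGA43.FibDepth.TensorTrd
import Mathlib.RingTheory.Spectrum.Prime.Jacobson
import Mathlib.RingTheory.Ideal.KrullsHeightTheorem

/-!
# Coordinates at a point of a fibre

For `q ∈ Spec R` with fibre dimension at most `n` at `q`, there is a map `A[X₁, …, Xₙ] → R`
quasi-finite at `q` such that the image point has residue field purely transcendental over `κ(p)`.
-/

set_option autoImplicit false
set_option backward.isDefEq.respectTransparency false
set_option linter.unusedSectionVars false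

universe u

open TensorProduct Function MvPolynomial

namespace Groth.Agent.FlatMorLocalStr

open EGA43.FibDepth

attribute [local instance] Algebra.TensorProduct.rightAlgebra

theorem isOpen_singleton_of_no_comparable {T : Type u} [CommRing T] [IsNoetherianRing T]
    [IsJacobsonRing T] (x : PrimeSpectrum T) (h : ∀ y, x ⤳ y ∨ y ⤳ x → y = x) :
    IsOpen ({x} : Set (PrimeSpectrum T)) := by
  refine ((PrimeSpectrum.isOpen_singleton_tfae_of_isNoetherian_of_isJacobsonRing x).out 0 2 rfl rfl).2
    ⟨closure_subset_iff_isClosed.1 fun y hy => h y (Or.inl (specializes_iff_mem_closure.2 hy)),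
      fun a b hab ha => ?_⟩
  rw [Set.mem_singleton_iff] at ha
  exact h b (Or.inr (ha ▸ hab))

theorem quasiFiniteAt_of_no_comparable {B R : Type u} [CommRing B] [CommRing R] [Algebra B R]
    [Algebra.FiniteType B R] (q : PrimeSpectrum R)
    (h : ∀ q' : PrimeSpectrum R, q'.asIdeal.comap (algebraMap B R) = q.asIdeal.comap (algebraMap B R) →
      (q'.asIdeal ≤ q.asIdeal ∨ q.asIdeal ≤ q'.asIdeal) → q' = q) :
    Algebra.QuasiFiniteAt B q.asIdeal := by
  rw [Algebra.quasiFiniteAt_iff_isOpen_singleton_fiber]
  let p := q.comap (algebraMap B R)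
  let e := PrimeSpectrum.preimageHomeomorphFiber B R p
  rw [← e.isOpen_image, Set.image_singleton]
  have : IsNoetherianRing (p.asIdeal.Fiber R) :=
    Algebra.FiniteType.isNoetherianRing p.asIdeal.ResidueField _
  have : IsJacobsonRing (p.asIdeal.Fiber R) :=
    isJacobsonRing_of_finiteType (A := p.asIdeal.ResidueField)
  refine isOpen_singleton_of_no_comparable _ fun y hy => ?_
  obtain ⟨⟨q', hq'⟩, rfl⟩ := e.surjective y
  simp only [e.isInducing.specializes_iff, subtype_specializes_iff] at hy
  refine congrArg e (Subtype.ext (h q' congr(($hq').asIdeal) ?_))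
  rcases hy with hy | hy
  · exact Or.inr ((PrimeSpectrum.le_iff_specializes _ _).2 hy)
  · exact Or.inl ((PrimeSpectrum.le_iff_specializes _ _).2 hy)

theorem quotient_dim_lt {k C : Type u} [Field k] [CommRing C] [Algebra k C] [Algebra.FiniteType k C]
    (I J : Ideal C) [I.IsPrime] [J.IsPrime] (h : I < J) (a b : ℕ)
    (ha : ringKrullDim (C ⧸ J) = a) (hb : ringKrullDim (C ⧸ I) = b) : a < b := by
  have hP : (J.map (Ideal.Quotient.mk I)).IsPrime := Ideal.isPrime_map_quotientMk_of_isPrime h.le
  have key := DimLib.height_add_ringKrullDim_quotient (k := k) (J.map (Ideal.Quotient.mk I))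
  have e1 : ringKrullDim ((C ⧸ I) ⧸ J.map (Ideal.Quotient.mk I)) = ringKrullDim (C ⧸ J) :=
    ringKrullDim_eq_of_ringEquiv (DoubleQuot.quotQuotEquivQuotOfLE h.le)
  rw [e1, ha, hb] at key
  have hne : (J.map (Ideal.Quotient.mk I)).height ≠ 0 := fun h0 => by
    rw [Ideal.height_eq_zero_iff_eq_bot, Ideal.map_eq_bot_iff_le_ker, Ideal.mk_ker] at h0
    exact h.not_ge h0
  generalize (J.map (Ideal.Quotient.mk I)).height = H at key hne
  cases H with
  | top =>
    rw [show ((⊤ : ℕ∞) : WithBot ℕ∞) + (a : WithBot ℕ∞) = ((⊤ : ℕ∞) : WithBot ℕ∞) by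
      rw [← WithBot.coe_natCast, ← WithBot.coe_add, top_add]] at key
    exact absurd (WithBot.coe_inj.1 key) (ENat.top_ne_natCast b)
  | coe m =>
    have hm : m ≠ 0 := fun h0 => hne (by simp [h0])
    have : m + a = b := by exact_mod_cast key
    omega

theorem exists_basis_in_range {k K : Type u} [Field k] [Field K] [Algebra k K] {T : Type u}
    [CommRing T] (g : T →+* K) (hg : ∀ x : K, ∃ a b, x = g a / g b) :
    ∃ t : Set K, t ⊆ Set.range g ∧ IsTranscendenceBasis k ((↑) : t → K) := by
  let s : Set K := Set.range g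
  have : Algebra.IsAlgebraic (Algebra.adjoin k s) K := by
    refine ⟨fun x => ?_⟩
    obtain ⟨a, b, rfl⟩ := hg x
    rw [div_eq_mul_inv]
    exact (isAlgebraic_algebraMap (⟨_, Algebra.subset_adjoin ⟨a, rfl⟩⟩ : Algebra.adjoin k s)).mul
      (isAlgebraic_algebraMap (⟨_, Algebra.subset_adjoin ⟨b, rfl⟩⟩ : Algebra.adjoin k s)).inv
  exact exists_isTranscendenceBasis_subset (R := k) (A := K) s

variable {A R : Type u} [CommRing A] [CommRing R] [Algebra A R] [Algebra.FiniteType A R]

/-- The transcendence degree strictly decreases along specializations in a fibre. -/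
theorem trd_lt {p : Ideal A} [p.IsPrime] {Q' Q : PrimeSpectrum (p.Fiber R)} (h : Q' < Q) :
    trd A (PrimeSpectrum.comap (algebraMap R (p.Fiber R)) Q) <
      trd A (PrimeSpectrum.comap (algebraMap R (p.Fiber R)) Q') := by
  have : Algebra.FiniteType p.ResidueField (p.Fiber R) := finiteType_fibre (A := A) (R := R) p _
  exact quotient_dim_lt (k := p.ResidueField) Q'.asIdeal Q.asIdeal h _ _
    (ringKrullDim_quotient_eq_trd (R := R) p Q) (ringKrullDim_quotient_eq_trd (R := R) p Q')

theorem height_add_trd_le {p : Ideal A} [p.IsPrime] (Q : PrimeSpectrum (p.Fiber R)) {n : ℕ}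
    (h : ∀ Q', Q' ≤ Q → trd A (PrimeSpectrum.comap (algebraMap R (p.Fiber R)) Q') ≤ n) :
    Q.asIdeal.height ≤ (n - trd A (PrimeSpectrum.comap (algebraMap R (p.Fiber R)) Q) : ℕ) := by
  rw [PrimeSpectrum.height_eq_orderHeight]
  refine Order.height_le fun l hl => ?_
  let T := fun i => trd A (PrimeSpectrum.comap (algebraMap R (p.Fiber R)) (l i))
  have key : ∀ i : Fin (l.length + 1), T (Fin.last _) + (l.length - i.1) ≤ T i := by
    intro i
    induction i using Fin.reverseInduction with
    | last => simp
    | cast i ih =>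
      have h1 : T i.succ < T i.castSucc := trd_lt (l.step i)
      simp only [Fin.val_succ, Fin.val_castSucc] at ih ⊢
      have := i.2
      omega
  have h0 := key 0
  have h1 : T 0 ≤ n := h _ (hl ▸ l.monotone (Fin.zero_le _))
  have h2 : T (Fin.last _) = trd A (PrimeSpectrum.comap (algebraMap R (p.Fiber R)) Q) := by
    show trd A (PrimeSpectrum.comap _ l.last) = _
    rw [hl]
  rw [Nat.cast_le]
  simp only [Fin.val_zero, tsub_zero] at h0
  omega

theorem exists_transcendenceBasis_lift (q : PrimeSpectrum R) (p : Ideal A) [p.IsPrime]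
    (hp : p = q.asIdeal.comap (algebraMap A R)) {r : ℕ} (hr : trd A q = r) :
    letI := (Ideal.ResidueField.map p q.asIdeal (algebraMap A R) hp).toAlgebra
    ∃ z : Fin r → R,
      AlgebraicIndependent p.ResidueField fun i => algebraMap R q.asIdeal.ResidueField (z i) := by
  let k := p.ResidueField
  let K := q.asIdeal.ResidueField
  let _ : Algebra k K := (Ideal.ResidueField.map p q.asIdeal (algebraMap A R) hp).toAlgebra
  obtain ⟨t, hts, ht⟩ := exists_basis_in_range (k := k) (algebraMap R K) fun x => by
    obtain ⟨a, b, -, rfl⟩ := IsFractionRing.div_surjective (A := R ⧸ q.asIdeal) x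
    obtain ⟨a, rfl⟩ := Ideal.Quotient.mk_surjective a
    obtain ⟨b, rfl⟩ := Ideal.Quotient.mk_surjective b
    exact ⟨a, b, rfl⟩
  have hfin : Algebra.trdeg k K < Cardinal.aleph0 := trdeg_residueField_lt p q hp
  have hcard : Cardinal.mk t = Algebra.trdeg k K := ht.cardinalMk_eq_trdeg
  have : Finite t := Cardinal.lt_aleph0_iff_finite.1 (hcard ▸ hfin)
  have htrd : r = Nat.card t := by
    rw [← hr, trd_eq_trdegHom q hp]
    show Cardinal.toNat (Algebra.trdeg k K) = _
    rw [← hcard]
    rfl
  let e : Fin r ≃ t := (finCongr htrd).trans (Finite.equivFin t).symm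
  choose z hz using fun i => hts (e i).2
  refine ⟨z, ?_⟩
  rw [funext hz]
  exact ht.1.comp _ e.injective

/-- Coordinates at a point. -/
theorem exists_coords (q : PrimeSpectrum R) {n : ℕ}
    (h : ∀ q' : PrimeSpectrum R, q'.asIdeal ≤ q.asIdeal →
      q'.asIdeal.comap (algebraMap A R) = q.asIdeal.comap (algebraMap A R) → trd A q' ≤ n) :
    ∃ v : Fin n → R,
      letI := (aeval v : MvPolynomial (Fin n) A →ₐ[A] R).toRingHom.toAlgebra
      Algebra.QuasiFiniteAt (MvPolynomial (Fin n) A) q.asIdeal ∧
      ∃ (r : ℕ) (hr : r ≤ n),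
        (∀ i : Fin n, r ≤ i.1 → v i ∈ q.asIdeal) ∧
        letI := (Ideal.ResidueField.map (q.asIdeal.comap (algebraMap A R)) q.asIdeal
          (algebraMap A R) rfl).toAlgebra
        AlgebraicIndependent (q.asIdeal.comap (algebraMap A R)).ResidueField
          fun i : Fin r => algebraMap R q.asIdeal.ResidueField (v (Fin.castLE hr i)) := by
  classical
  let p := q.asIdeal.comap (algebraMap A R)
  let D := p.Fiber R
  let _ : Algebra p.ResidueField q.asIdeal.ResidueField :=
    (Ideal.ResidueField.map p q.asIdeal (algebraMap A R) rfl).toAlgebra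
  have : Algebra.FiniteType p.ResidueField D := finiteType_fibre (A := A) (R := R) p D
  have : IsNoetherianRing D := Algebra.FiniteType.isNoetherianRing p.ResidueField D
  obtain ⟨Q, hQ⟩ := exists_prime_over (A := A) (p := p) D q rfl
  obtain ⟨r, hr⟩ : ∃ r, trd A q = r := ⟨_, rfl⟩
  obtain ⟨z, hz⟩ := exists_transcendenceBasis_lift q p rfl hr
  have hr' : r ≤ n := hr ▸ h q le_rfl rfl
  obtain ⟨s, hs, hscard⟩ := Q.asIdeal.exists_finset_card_eq_height_of_isNoetherianRing
  have hcard : s.card ≤ n - r := by
    have := height_add_trd_le (p := p) Q (n := n) fun Q' hQ' => by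
      exact h _ ((Ideal.comap_mono hQ').trans_eq (congrArg PrimeSpectrum.asIdeal hQ))
        (comap_algebraMap_eq (R := R) p Q').symm
    rw [hQ, ← hscard, hr] at this
    exact_mod_cast this
  choose c hc b hb using fun i : Fin s.card => exists_smul_eq_map R p ((s.equivFin.symm i : D))
  let v : Fin n → R := fun i =>
    if h1 : i.1 < r then z ⟨i.1, h1⟩
    else if h2 : i.1 - r < s.card then b ⟨i.1 - r, h2⟩ else 0
  have hsQ : ∀ x ∈ s, x ∈ Q.asIdeal := fun x hx => hs.1.2 (Ideal.subset_span hx)
  have hbq : ∀ j, b j ∈ q.asIdeal := fun j => by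
    rw [← hQ]
    show algebraMap R D (b j) ∈ Q.asIdeal
    rw [← hb j]
    exact Ideal.mul_mem_left _ _ (hsQ _ (s.equivFin.symm j).2)
  have hvq : ∀ i : Fin n, r ≤ i.1 → v i ∈ q.asIdeal := fun i hi => by
    simp only [v, dif_neg (not_lt.2 hi)]
    split
    · exact hbq _
    · exact zero_mem _
  have hvz : ∀ i : Fin r, v (Fin.castLE hr' i) = z i := fun i => by simp [v]
  refine ⟨v, ?_, r, hr', hvq, ?_⟩
  swap
  · simp only [hvz]
    exact hz
  let B := MvPolynomial (Fin n) A
  let φ : B →ₐ[A] R := aeval v
  let _ := φ.toRingHom.toAlgebra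
  have : IsScalarTower A B R := .of_algebraMap_eq fun a => (φ.commutes a).symm
  have : Algebra.FiniteType B R := Algebra.FiniteType.of_restrictScalars_finiteType A B R
  refine quasiFiniteAt_of_no_comparable q fun q' hq' hcmp => ?_
  have hp' : p = q'.asIdeal.comap (algebraMap A R) := by
    simp only [p]
    rw [IsScalarTower.algebraMap_eq A B R, ← Ideal.comap_comap, ← hq', Ideal.comap_comap]
  obtain ⟨Q', hQ'⟩ := exists_prime_over (A := A) (p := p) D q' hp'
  have hX : ∀ i, algebraMap B R (X i) = v i := fun i => aeval_X v i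
  rcases hcmp with hle | hle
  · -- generalisations: minimality
    have hle' : Q'.asIdeal ≤ Q.asIdeal := le_of_comap_le (R := R) p (by rw [hQ, hQ']; exact hle)
    have hsQ' : Ideal.span (s : Set D) ≤ Q'.asIdeal := by
      rw [Ideal.span_le]
      intro x hx
      set j := s.equivFin ⟨x, hx⟩ with hj
      have hjn : r + j.1 < n := by
        have := j.2
        omega
      have hvb : v ⟨r + j.1, hjn⟩ = b j := by simp [v]
      have h1 : v ⟨r + j.1, hjn⟩ ∈ q'.asIdeal := by
        have : X ⟨r + j.1, hjn⟩ ∈ q'.asIdeal.comap (algebraMap B R) := by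
          rw [hq', Ideal.mem_comap, hX]
          exact hvq _ (Nat.le_add_right _ _)
        rwa [Ideal.mem_comap, hX] at this
      rw [hvb, ← hQ'] at h1
      have h2 : algebraMap R D (b j) ∈ Q'.asIdeal := h1
      rw [← hb j, hj, Equiv.symm_apply_apply] at h2
      exact (Q'.isPrime.mem_or_mem h2).resolve_left fun h' => Q'.isPrime.ne_top
        (Ideal.eq_top_of_isUnit_mem _ h' (isUnit_algebraMap (hc _)))
    have : Q' = Q := PrimeSpectrum.ext (le_antisymm hle' (hs.2 ⟨Q'.isPrime, hsQ'⟩ hle'))
    rw [← hQ', this, hQ]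
  · -- specialisations: transcendence degree
    by_contra hne
    have hle' : Q.asIdeal ≤ Q'.asIdeal := le_of_comap_le (R := R) p (by rw [hQ, hQ']; exact hle)
    have hlt : Q < Q' := lt_of_le_of_ne hle' fun e => hne (by rw [← hQ', ← e, hQ])
    have h1 := trd_lt hlt
    rw [hQ, hQ', hr] at h1
    let P' := q.asIdeal.comap (algebraMap B R)
    have hpP : p = P'.comap (algebraMap A B) := by
      rw [Ideal.comap_comap, ← IsScalarTower.algebraMap_eq]
    let _ : Algebra p.ResidueField P'.ResidueField :=
      (Ideal.ResidueField.map p P' (algebraMap A B) hpP).toAlgebra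
    let _ : Algebra p.ResidueField q'.asIdeal.ResidueField :=
      (Ideal.ResidueField.map p q'.asIdeal (algebraMap A R) hp').toAlgebra
    have mk : ∀ (q₀ : PrimeSpectrum R) (hP : P' = q₀.asIdeal.comap (algebraMap B R))
        (hp₀ : p = q₀.asIdeal.comap (algebraMap A R)) (a : p.ResidueField),
        Ideal.ResidueField.map P' q₀.asIdeal (algebraMap B R) hP (algebraMap _ P'.ResidueField a) =
          Ideal.ResidueField.map p q₀.asIdeal (algebraMap A R) hp₀ a := by
      intro q₀ hP hp₀ a
      refine congr($(Ideal.ResidueField.ringHom_ext (f := (Ideal.ResidueField.map P' q₀.asIdeal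
        (algebraMap B R) hP).comp (algebraMap p.ResidueField P'.ResidueField))
        (g := Ideal.ResidueField.map p q₀.asIdeal (algebraMap A R) hp₀)
        (RingHom.ext fun c => ?_)) a)
      simp only [RingHom.comp_apply, RingHom.algebraMap_toAlgebra, Ideal.ResidueField.map_algebraMap]
      exact congrArg _ (φ.commutes c)
    let f₁ : P'.ResidueField →ₐ[p.ResidueField] q.asIdeal.ResidueField :=
      { Ideal.ResidueField.map P' q.asIdeal (algebraMap B R) rfl with commutes' := mk q rfl rfl }
    let f₂ : P'.ResidueField →ₐ[p.ResidueField] q'.asIdeal.ResidueField :=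
      { Ideal.ResidueField.map P' q'.asIdeal (algebraMap B R) hq'.symm with
        commutes' := mk q' hq'.symm hp' }
    let x : Fin r → P'.ResidueField := fun i => algebraMap B P'.ResidueField (X (Fin.castLE hr' i))
    have hx : AlgebraicIndependent p.ResidueField x := by
      refine AlgebraicIndependent.of_comp f₁ ?_
      convert hz using 1
      funext i
      show Ideal.ResidueField.map P' q.asIdeal (algebraMap B R) rfl
        (algebraMap B P'.ResidueField (X (Fin.castLE hr' i))) = _
      rw [Ideal.ResidueField.map_algebraMap, hX, hvz]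
    have hx' := hx.map' (f := f₂) f₂.injective
    have h2 : r ≤ trd A q' := by
      rw [trd_eq_trdegHom q' hp']
      refine le_trans (le_of_eq ?_) (Cardinal.toNat_le_toNat
        (hx'.comp Equiv.ulift.{u} Equiv.ulift.injective).cardinalMk_le_trdeg
        (trdeg_residueField_lt p q' hp'))
      simp
    omega

end Groth.Agent.FlatMorLocalStr
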