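import Groth.Agent.FlatMorLocalStr.Coords
import Groth.Agent.FlatMorDim.LocalDim
import Groth.Agent.FlatMorQFSplit.Split
import Mathlib.AlgebraicGeometry.Morphisms.Smooth

/-!
# Coordinate chart: a map to affine `n`-space over the base, quasi-finite at a given point
-/

set_option autoImplicit false
set_option backward.isDefEq.respectTransparency false

universe u

open AlgebraicGeometry CategoryTheory Limits MvPolynomial

namespace Groth.Agent.FlatMorLocalStr

theorem isStandardSmoothOfRelativeDimension_mvPolynomial (A : Type u) [CommRing A] (n : ℕ) :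
    Algebra.IsStandardSmoothOfRelativeDimension n A (MvPolynomial (Fin n) A) := by
  let v : PEmpty.{1} → MvPolynomial (Fin n) A := PEmpty.elim
  let P : Algebra.SubmersivePresentation A (MvPolynomial (Fin n) A ⧸ Ideal.span (Set.range v))
      (Fin n) PEmpty.{1} :=
    { toPreSubmersivePresentation := Algebra.PreSubmersivePresentation.naive (v := v) PEmpty.elim
        (fun a => a.elim)
      jacobian_isUnit := by
        rw [Algebra.PreSubmersivePresentation.jacobian_eq_jacobiMatrix_det, Matrix.det_isEmpty]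
        simp }
  have : Algebra.IsStandardSmoothOfRelativeDimension n A
      (MvPolynomial (Fin n) A ⧸ Ideal.span (Set.range v)) :=
    P.isStandardSmoothOfRelativeDimension (by simp [Algebra.Presentation.dimension])
  refine .of_algEquiv n ((Ideal.quotientEquivAlgOfEq A (show Ideal.span (Set.range v) = ⊥ by
    simp [Set.range_eq_empty])).trans (AlgEquiv.quotientBot A _))

theorem smoothOfRelativeDimension_affineSpace {S : Scheme.{u}} {U : S.Opens} (hU : IsAffineOpen U)
    (n : ℕ) :
    SmoothOfRelativeDimension n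
      (Spec.map (CommRingCat.ofHom (algebraMap Γ(S, U) (MvPolynomial (Fin n) Γ(S, U)))) ≫
        hU.fromSpec) := by
  have : SmoothOfRelativeDimension n
      (Spec.map (CommRingCat.ofHom (algebraMap Γ(S, U) (MvPolynomial (Fin n) Γ(S, U))))) := by
    rw [HasRingHomProperty.Spec_iff (P := @SmoothOfRelativeDimension n)]
    refine RingHom.locally_of
      (RingHom.isStandardSmoothOfRelativeDimension_respectsIso (n := n)) _ ?_
    exact (RingHom.isStandardSmoothOfRelativeDimension_algebraMap n).2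
      (isStandardSmoothOfRelativeDimension_mvPolynomial _ n)
  have h := smoothOfRelativeDimension_comp
    (Spec.map (CommRingCat.ofHom (algebraMap Γ(S, U) (MvPolynomial (Fin n) Γ(S, U))))) hU.fromSpec
    (n := n) (m := 0)
  simpa using h

theorem quasiFiniteAt_specMap {R T : CommRingCat.{u}} (φ : R ⟶ T) (x : PrimeSpectrum T)
    (h : φ.hom.QuasiFiniteAt x.asIdeal) : (Spec.map φ).QuasiFiniteAt x := by
  algebraize [φ.hom]
  have h' : Algebra.QuasiFiniteAt R x.asIdeal := h
  rw [Scheme.Hom.quasiFiniteAt_iff, Spec.fromSpecStalk_eq', ← Spec.map_comp,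
    HasRingHomProperty.Spec_iff (P := @LocallyQuasiFinite)]
  let e := IsLocalization.algEquiv x.asIdeal.primeCompl (Localization.AtPrime x.asIdeal)
    ((Spec.structureSheaf T).presheaf.stalk x)
  have he : (φ ≫ StructureSheaf.toStalk T x).hom =
      e.toRingEquiv.toRingHom.comp (algebraMap R (Localization.AtPrime x.asIdeal)) := by
    refine RingHom.ext fun r => ?_
    rw [IsScalarTower.algebraMap_eq R T (Localization.AtPrime x.asIdeal)]
    exact (e.commutes (φ.hom r)).symm
  rw [he]
  exact (RingHom.QuasiFinite.of_finite e.toRingEquiv.finite).comp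
    (RingHom.quasiFinite_algebraMap.2 h')

/-- The coordinate chart. -/
theorem exists_chart {X S : Scheme.{u}} (f : X ⟶ S) [LocallyOfFiniteType f] (x : X) (n : ℕ)
    (hn : FlatMor.fibreDimAt f x ≤ (n : WithBot ℕ∞)) :
    ∃ (U : S.Opens) (hU : IsAffineOpen U) (V : X.Opens) (hV : IsAffineOpen V) (hxV : x ∈ V)
      (e : V ≤ f ⁻¹ᵁ U) (φ : CommRingCat.of (MvPolynomial (Fin n) Γ(S, U)) ⟶ Γ(X, V)),
      CommRingCat.ofHom (algebraMap Γ(S, U) (MvPolynomial (Fin n) Γ(S, U))) ≫ φ = f.appLE U V e ∧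
      φ.hom.FiniteType ∧ (Spec.map φ).QuasiFiniteAt (hV.primeIdealOf ⟨x, hxV⟩) ∧
      ∃ (r : ℕ) (hr : r ≤ n),
        (∀ i : Fin n, r ≤ i.1 → φ (MvPolynomial.X i) ∈ (hV.primeIdealOf ⟨x, hxV⟩).asIdeal) ∧
        letI := (f.appLE U V e).hom.toAlgebra
        letI := (Ideal.ResidueField.map ((hV.primeIdealOf ⟨x, hxV⟩).asIdeal.comap
          (algebraMap Γ(S, U) Γ(X, V))) (hV.primeIdealOf ⟨x, hxV⟩).asIdeal
          (algebraMap Γ(S, U) Γ(X, V)) rfl).toAlgebra
        AlgebraicIndependent
          ((hV.primeIdealOf ⟨x, hxV⟩).asIdeal.comap (algebraMap Γ(S, U) Γ(X, V))).ResidueField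
          fun i : Fin r => algebraMap Γ(X, V) (hV.primeIdealOf ⟨x, hxV⟩).asIdeal.ResidueField
            (φ (MvPolynomial.X (Fin.castLE hr i))) := by
  obtain ⟨U, hU, hxU, -⟩ := exists_isAffineOpen_mem_and_subset (x := f x) (U := ⊤) (Set.mem_univ _)
  obtain ⟨V, hV, hxV, hVU⟩ := exists_isAffineOpen_mem_and_subset (x := x) (U := f ⁻¹ᵁ U) hxU
  have e : V ≤ f ⁻¹ᵁ U := hVU
  have hft : (f.appLE U V e).hom.FiniteType := LocallyOfFiniteType.finiteType_appLE f hU hV e
  algebraize [(f.appLE U V e).hom]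
  let q := hV.primeIdealOf ⟨x, hxV⟩
  have hp : ∀ y (hy : y ∈ V), (hV.primeIdealOf ⟨y, hy⟩).asIdeal.comap (f.appLE U V e).hom =
      (hU.primeIdealOf ⟨f y, e hy⟩).asIdeal :=
    fun y hy => EGA43.FibDepth.comap_primeIdealOf f hU hV e hy
  have htrd : ∀ q' : PrimeSpectrum Γ(X, V), q'.asIdeal ≤ q.asIdeal →
      q'.asIdeal.comap (algebraMap Γ(S, U) Γ(X, V)) = q.asIdeal.comap (algebraMap Γ(S, U) Γ(X, V)) →
      EGA43.FibDepth.trd Γ(S, U) q' ≤ n := by
    intro q' hle hq'
    have hy : hV.fromSpec q' ∈ V := hV.range_fromSpec.le ⟨q', rfl⟩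
    have hq : hV.primeIdealOf ⟨hV.fromSpec q', hy⟩ = q' :=
      hV.fromSpec.isOpenEmbedding.injective (hV.fromSpec_primeIdealOf ⟨hV.fromSpec q', hy⟩)
    rw [← hq, ← EGA43.FibDepth.trdegHom_residueFieldMap f hU hV e hy]
    refine (FlatMorDim.fibreDimAt_le_iff f x n).1 hn _ ?_ ?_
    · have := hp _ hy
      rw [hq] at this
      have h' : hU.primeIdealOf ⟨f (hV.fromSpec q'), e hy⟩ = hU.primeIdealOf ⟨f x, e hxV⟩ :=
        PrimeSpectrum.ext (by rw [← this, ← hp x hxV]; exact hq')
      have := congrArg hU.fromSpec h'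
      rwa [hU.fromSpec_primeIdealOf, hU.fromSpec_primeIdealOf] at this
    · have h' := ((PrimeSpectrum.le_iff_specializes _ _).1 (show q' ≤ q from hle)).map
        hV.fromSpec.continuous
      rwa [hV.fromSpec_primeIdealOf] at h'
  obtain ⟨v, hqf, r, hr, hvq, hind⟩ := exists_coords q htrd
  refine ⟨U, hU, V, hV, hxV, e, CommRingCat.ofHom (MvPolynomial.aeval v).toRingHom, ?_, ?_, ?_,
    r, hr, ?_, ?_⟩
  · ext a
    simp [RingHom.algebraMap_toAlgebra]
  · refine RingHom.FiniteType.of_comp_finiteType (f := algebraMap Γ(S, U) _) ?_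
    convert hft
    ext a
    simp [RingHom.algebraMap_toAlgebra]
  · exact quasiFiniteAt_specMap _ _ hqf
  · intro i hi
    simpa using hvq i hi
  · simpa using hind

end Groth.Agent.FlatMorLocalStr
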