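import Groth.Agent.FlatMorLocalStr.SmoothFibres
import Groth.Agent.FlatMorQFSplit.Split
import Groth.Agent.FlatMorSmoothSect.Scheme
import Groth.Agent.FlatMorWeight.Comp

/-!
# Geometrically integral fibres after an elementary étale localisation

`exists_geometricallyIntegral_nhd`: a point `y` of a smooth affine scheme over an affine base having
one preimage over every étale point above `s = h₀ y` has an elementary étale neighbourhood which is
smooth with geometrically integral fibres over an elementary étale neighbourhood of `s`.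
-/

set_option autoImplicit false
set_option backward.isDefEq.respectTransparency false

universe u

open AlgebraicGeometry CategoryTheory Limits TopologicalSpace

namespace Groth.Agent.FlatMorLocalStr

theorem residueFieldMap_bijective_comp {X Y Z : Scheme.{u}} (f : X ⟶ Y) [IsOpenImmersion f]
    (g : Y ⟶ Z) (x : X) (h : Function.Bijective (g.residueFieldMap (f x))) :
    Function.Bijective ((f ≫ g).residueFieldMap x) := by
  rw [Scheme.residueFieldMap_comp f g x]
  exact ((ConcreteCategory.isIso_iff_bijective _).1 (FlatMorThick.isIso_residueFieldMap f x)).comp h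

/-- Elementary étale splitting with affine base and surjective finite part. -/
theorem exists_split_affine {X S : Scheme.{u}} (g : X ⟶ S) [Etale g] {x : X} {s : S} (hs : g x = s) :
    ∃ (S' : Scheme.{u}) (e : S' ⟶ S) (s' : S'), IsAffine S' ∧ Hens2.IsEtaleNbhd e s' s ∧
      ∃ (V : (pullback g e).Opens) (v : ↑(pullback g e)),
        IsFinite (V.ι ≫ pullback.snd g e) ∧ Surjective (V.ι ≫ pullback.snd g e) ∧ v ∈ V ∧
        pullback.fst g e v = x ∧ pullback.snd g e v = s' ∧
        ∀ w ∈ V, pullback.snd g e w = s' → w = v := by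
  have := FlatMorWeight.locallyQuasiFinite_of_etale g
  obtain ⟨U, e₀, u, hu, V, v, hfin, hvV, hv, hvu, huniq⟩ :=
    FlatMorQFSplit.exists_split_unique g hs (g.quasiFiniteAt x)
  have := hfin
  let b := V.ι ≫ pullback.snd g e₀
  obtain ⟨A, hA, huA, hAb⟩ := exists_isAffineOpen_mem_and_subset (X := U) (x := u)
    (U := ⟨Set.range b, b.isOpenMap.isOpen_range⟩) ⟨⟨v, hvV⟩, hvu⟩
  have hue := hu.etale
  let e := A.ι ≫ e₀
  have he : Hens2.IsEtaleNbhd e ⟨u, huA⟩ s := by
    exact ⟨inferInstance, hu.base_eq,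
      residueFieldMap_bijective_comp A.ι e₀ ⟨u, huA⟩ hu.residue_bijective⟩
  let m : pullback g e ⟶ pullback g e₀ :=
    pullback.lift (pullback.fst _ _) (pullback.snd _ _ ≫ A.ι) (by
      rw [Category.assoc]; exact pullback.condition)
  have hm : IsPullback m (pullback.snd g e) (pullback.snd g e₀) A.ι := by
    refine IsPullback.of_right ?_ (pullback.lift_snd _ _ _) (IsPullback.of_hasPullback g e₀)
    rw [pullback.lift_fst]
    exact IsPullback.of_hasPullback g e
  have hmV : IsPullback (m ∣_ V) ((m ⁻¹ᵁ V).ι ≫ pullback.snd g e) b A.ι :=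
    (isPullback_morphismRestrict m V).paste_vert hm
  have hAsur : Surjective ((m ⁻¹ᵁ V).ι ≫ pullback.snd g e) := ⟨fun a => by
    obtain ⟨w, hw⟩ := hAb a.2
    obtain ⟨t, -, ht⟩ := Scheme.exists_preimage_of_isPullback hmV w a hw
    exact ⟨t, ht⟩⟩
  obtain ⟨v', hv'1, hv'2⟩ := Scheme.exists_preimage_of_isPullback hm v ⟨u, huA⟩ hvu
  refine ⟨A.toScheme, e, ⟨u, huA⟩, hA, he, m ⁻¹ᵁ V, v',
    MorphismProperty.of_isPullback hmV hfin, hAsur, ?_, ?_, hv'2, fun w hw hws => ?_⟩
  · show m v' ∈ V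
    rwa [hv'1]
  · rw [← hv, ← hv'1, ← Scheme.Hom.comp_apply, pullback.lift_fst]
  · refine FlatMorQFSplit.eq_of_fst_eq g he w v' hws hv'2 ?_
    have h1 : m w = v := huniq (m w) hw (by
      rw [← Scheme.Hom.comp_apply, hm.w, Scheme.Hom.comp_apply, hws]; rfl)
    calc pullback.fst g e w = pullback.fst g e₀ (m w) := by
          rw [← Scheme.Hom.comp_apply, pullback.lift_fst]
      _ = pullback.fst g e₀ (m v') := by rw [h1, hv'1]
      _ = pullback.fst g e v' := by rw [← Scheme.Hom.comp_apply, pullback.lift_fst]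

/-- The connected component of a point in a fibre of a smooth morphism: it is connected and cut out
by an open. -/
theorem exists_fibre_component {Y S : Scheme.{u}} (h₀ : Y ⟶ S) [Smooth h₀] (y : Y) :
    ∃ (O : Y.Opens), y ∈ O ∧ IsPreconnected ((O : Set Y) ∩ h₀ ⁻¹' {h₀ y}) := by
  have : Smooth (h₀.fiberToSpecResidueField (h₀ y)) :=
    inferInstanceAs (Smooth (pullback.snd h₀ (S.fromSpecResidueField (h₀ y))))
  have hopen := isOpen_connectedComponent_of_smooth_field (K := S.residueField (h₀ y))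
    (h₀.fiberToSpecResidueField (h₀ y)) (h₀.asFiber y)
  obtain ⟨O, hO, hOC⟩ := (h₀.fiberι (h₀ y)).isEmbedding.isInducing.isOpen_iff.1 hopen
  refine ⟨⟨O, hO⟩, ?_, ?_⟩
  · have : h₀.asFiber y ∈ h₀.fiberι (h₀ y) ⁻¹' O := hOC ▸ mem_connectedComponent
    rwa [Set.mem_preimage, Scheme.Hom.fiberι_asFiber] at this
  · show IsPreconnected (O ∩ h₀ ⁻¹' {h₀ y})
    rw [← h₀.range_fiberι, Set.inter_comm, ← Set.image_preimage_eq_range_inter, hOC]
    exact isPreconnected_connectedComponent.image _ (h₀.fiberι (h₀ y)).continuous.continuousOn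

/-- An open-closed part of a fibre mapped by an open and closed map covers connected sets it
meets. -/
theorem subset_image_of_component {α β : Type*} [TopologicalSpace α] [TopologicalSpace β] {f : α → β}
    (hfo : IsOpenMap f) (hfc : IsClosedMap f) {F : Set α} {G : Set β} (hFG : F = f ⁻¹' G) {E : Set α}
    (hE : IsOpen E) {a : α} (hEF : E ∩ F = connectedComponentIn F a) (ha : a ∈ F)
    {T : Set β} (hT : IsPreconnected T) (hTG : T ⊆ G) (hTa : f a ∈ T) : T ⊆ f '' (E ∩ F) := by
  subst hFG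
  have hro := hfo.restrictPreimage G
  have hrc := hfc.restrictPreimage G
  let C : Set (f ⁻¹' G) := Subtype.val ⁻¹' E
  have hCc : IsClosed C := by
    have : C = connectedComponent (⟨a, ha⟩ : f ⁻¹' G) := by
      ext x
      have := Set.ext_iff.1 hEF x.1
      rw [connectedComponentIn_eq_image ha] at this
      simpa [C, x.2, Subtype.val_injective.mem_set_image] using this
    rw [this]
    exact isClosed_connectedComponent
  have himg : IsClopen (G.restrictPreimage f '' C) :=
    ⟨hrc _ hCc, hro _ (hE.preimage continuous_subtype_val)⟩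
  intro t ht
  have hTpre : IsPreconnected (Subtype.val ⁻¹' T : Set G) := by
    rw [← Topology.IsInducing.subtypeVal.isPreconnected_image, Subtype.image_preimage_coe,
      Set.inter_eq_right.2 hTG]
    exact hT
  have haE : a ∈ E := (hEF.ge (mem_connectedComponentIn ha)).1
  obtain ⟨c, hc, hct⟩ := hTpre.subset_isClopen himg
    ⟨⟨f a, hTG hTa⟩, hTa, ⟨⟨a, ha⟩, haE, rfl⟩⟩ (show (⟨t, hTG ht⟩ : G) ∈ _ from ht)
  exact ⟨c.1, ⟨hc, c.2⟩, congrArg Subtype.val hct⟩

theorem exists_geometricallyIntegral_nhd {Y S : Scheme.{u}} (h₀ : Y ⟶ S) {n : ℕ}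
    [SmoothOfRelativeDimension n h₀] [IsAffine Y] [IsAffine S] (y : Y)
    (hy : ∀ {Z : Scheme.{u}} (a : Z ⟶ S) [Etale a] (z : Z), a z = h₀ y →
      ∀ p p' : ↑(pullback h₀ a), pullback.fst h₀ a p = y → pullback.snd h₀ a p = z →
        pullback.fst h₀ a p' = y → pullback.snd h₀ a p' = z → p = p') :
    ∃ (S' Y' : Scheme.{u}) (e : S' ⟶ S) (c : Y' ⟶ Y) (h : Y' ⟶ S') (s' : S') (y' : Y'),
      IsAffine S' ∧ IsAffine Y' ∧ Hens2.IsEtaleNbhd e s' (h₀ y) ∧ Hens2.IsEtaleNbhd c y' y ∧
      c ≫ h₀ = h ≫ e ∧ h y' = s' ∧ SmoothOfRelativeDimension n h ∧ GeometricallyIntegral h := by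
  have : Smooth h₀ := SmoothOfRelativeDimension.smooth n h₀
  obtain ⟨O, hyO, hO⟩ := exists_fibre_component h₀ y
  obtain ⟨S'', g, w, hg, hgw, σ₁, hσ₁⟩ :=
    FlatMorSmoothSect.exists_section_etale_locally (O.ι ≫ h₀) ⟨y, hyO⟩
  obtain ⟨S', e, s', hS', he, V, v, hfin, hsurj, hvV, hvw, hvs, huniq⟩ :=
    exists_split_affine g (x := w) (s := h₀ y) hgw
  have := he.etale
  let Z := V.toScheme
  let b : Z ⟶ S' := V.ι ≫ pullback.snd g e
  let a : Z ⟶ S := b ≫ e
  have : IsFinite b := hfin
  have : Surjective b := hsurj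
  have : Etale b := inferInstance
  have : IsAffine Z := isAffine_of_isAffineHom b
  let z : Z := ⟨v, hvV⟩
  have haz : a z = h₀ y := by
    show e (pullback.snd g e v) = _
    rw [hvs]; exact he.base_eq
  let σ : Z ⟶ Y := V.ι ≫ pullback.fst g e ≫ σ₁ ≫ O.ι
  have hσ : σ ≫ h₀ = a := by
    simp only [σ, a, b, Category.assoc]
    rw [hσ₁, pullback.condition]
  let Y'' := pullback h₀ e
  let P := pullback h₀ a
  let p : P ⟶ Z := pullback.snd h₀ a
  let q : P ⟶ Y'' := pullback.lift (pullback.fst _ _) (p ≫ b) (by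
    rw [Category.assoc]; exact pullback.condition)
  let h₁ : Y'' ⟶ S' := pullback.snd h₀ e
  have hsq : IsPullback q p h₁ b := by
    refine IsPullback.of_right ?_ (pullback.lift_snd _ _ _) (IsPullback.of_hasPullback h₀ e)
    rw [pullback.lift_fst]
    exact IsPullback.of_hasPullback h₀ a
  have : IsFinite q := MorphismProperty.of_isPullback hsq.flip ‹_›
  have : Etale q := MorphismProperty.of_isPullback hsq.flip inferInstance
  let σP : Z ⟶ P := pullback.lift σ (𝟙 Z) (by rw [hσ, Category.id_comp])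
  have hσP : σP ≫ p = 𝟙 Z := pullback.lift_snd _ _ _
  let E := MoreMor.sectionComponents p σP
  have hE : IsOpen E := isOpen_sectionComponents_of_smooth p σP hσP
  let good : Y''.Opens := ⟨(q '' Eᶜ)ᶜ, (q.isClosedMap _ hE.isClosed_compl).isOpen_compl⟩
  obtain ⟨y'', hy''1, hy''2⟩ := Scheme.Pullback.exists_preimage_pullback y s' (he.base_eq.symm)
  have hzu : ∀ t : Z, b t = s' → t = z := fun t ht => Subtype.ext (huniq t.1 t.2 ht)
  have hgood : y'' ∈ good := by
    rintro ⟨p₀, hp₀E, hp₀⟩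
    have hp₀fst : pullback.fst h₀ a p₀ = y := by
      rw [← hy''1, ← hp₀, ← Scheme.Hom.comp_apply, pullback.lift_fst]
    have hbp : ∀ t, b (p t) = h₁ (q t) := fun t => by
      rw [← Scheme.Hom.comp_apply, ← Scheme.Hom.comp_apply, hsq.w]
    have hp₀snd : p p₀ = z := hzu _ (by rw [hbp, hp₀]; exact hy''2)
    have hF : p ⁻¹' {z} = q ⁻¹' (h₁ ⁻¹' {s'}) := by
      ext t
      simp only [Set.mem_preimage, Set.mem_singleton_iff]
      exact ⟨fun h => by rw [← hbp, h]; exact hvs, fun h => hzu _ (by rw [hbp, h])⟩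
    have hσz : p (σP z) = z := by rw [← Scheme.Hom.comp_apply, hσP]; rfl
    have hEF : E ∩ p ⁻¹' {z} = connectedComponentIn (p ⁻¹' {z}) (σP z) := by
      ext t
      refine ⟨fun ⟨h1, h2⟩ => ?_, fun ht => ?_⟩
      · have h1' : t ∈ connectedComponentIn (p ⁻¹' {p t}) (σP (p t)) := h1
        rwa [show p t = z from h2] at h1'
      · have h2 : p t = z := connectedComponentIn_subset (p ⁻¹' {z}) (σP z) ht
        refine ⟨?_, h2⟩
        show t ∈ connectedComponentIn (p ⁻¹' {p t}) (σP (p t))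
        rw [h2]
        exact ht
    -- the connected set in the fibre over `s'`
    let T : Set Y'' := pullback.fst h₀ e ⁻¹' ((O : Set Y) ∩ h₀ ⁻¹' {h₀ y}) ∩ h₁ ⁻¹' {s'}
    have hT : _root_.IsPreconnected T := by
      obtain ⟨φ, hφi, hφ⟩ := FlatMor12.exists_fiber_iso h₀ he
      have : T = ((pullback.snd h₀ e).fiberι s') '' ((φ ≫ h₀.fiberι (h₀ y)) ⁻¹'
          ((O : Set Y) ∩ h₀ ⁻¹' {h₀ y})) := by
        rw [hφ, Scheme.Hom.comp_base, TopCat.coe_comp, Set.preimage_comp,
          Set.image_preimage_eq_range_inter, Scheme.Hom.range_fiberι, Set.inter_comm]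
      rw [this]
      refine IsPreconnected.image ?_ _ ((pullback.snd h₀ e).fiberι s').continuous.continuousOn
      refine (φ ≫ h₀.fiberι (h₀ y)).isEmbedding.isInducing.isPreconnected_image.1 ?_
      rw [Set.image_preimage_eq_of_subset]
      · exact hO
      · rw [Scheme.Hom.comp_base, TopCat.coe_comp, Set.range_comp,
          Set.range_eq_univ.2 (show Function.Surjective φ from φ.homeomorph.surjective), Set.image_univ, Scheme.Hom.range_fiberι]
        exact Set.inter_subset_right
    have hTσ : q (σP z) ∈ T := by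
      refine ⟨?_, ?_⟩
      · rw [Set.mem_preimage]
        rw [← Scheme.Hom.comp_apply, pullback.lift_fst, ← Scheme.Hom.comp_apply, pullback.lift_fst]
        refine ⟨?_, ?_⟩
        · exact (σ₁ (pullback.fst g e v)).2
        · show h₀ (σ z) = h₀ y
          rw [← Scheme.Hom.comp_apply, hσ, haz]
      · show h₁ (q (σP z)) = s'
        rw [← hbp, hσz]; exact hvs
    obtain ⟨c, ⟨hcE, hcz⟩, hc⟩ := subset_image_of_component q.isOpenMap q.isClosedMap hF hE hEF
      (show σP z ∈ p ⁻¹' {z} from hσz) hT Set.inter_subset_right hTσ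
      (show y'' ∈ T from ⟨by rw [Set.mem_preimage, hy''1]; exact ⟨hyO, rfl⟩, hy''2⟩)
    have hcfst : pullback.fst h₀ a c = y := by
      rw [← hy''1, ← hc, ← Scheme.Hom.comp_apply, pullback.lift_fst]
    exact hp₀E (hy a z haz c p₀ hcfst hcz hp₀fst hp₀snd ▸ hcE)
  have : IsAffine Y'' := inferInstance
  obtain ⟨W₀, hW₀, hy''W, hW₀good⟩ := exists_isAffineOpen_mem_and_subset (X := Y'') (x := y'')
    (U := good) hgood
  have : Smooth h₁ := inferInstance
  obtain ⟨A, hA, hsA, hAW⟩ := exists_isAffineOpen_mem_and_subset (X := S') (x := s')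
    (U := ⟨h₁ '' W₀, h₁.isOpenMap _ W₀.2⟩) ⟨y'', hy''W, hy''2⟩
  let W : Y''.Opens := W₀ ⊓ h₁ ⁻¹ᵁ A
  have hWaff : IsAffineOpen W :=
    IsAffineHom.isAffine_preimage (f := h₁) A hA |>.inf hW₀ |> fun h => by rwa [inf_comm] at h
  have : IsAffine A.toScheme := hA
  have : IsAffine W.toScheme := hWaff
  let h : W.toScheme ⟶ A.toScheme := IsOpenImmersion.lift A.ι (W.ι ≫ h₁) (by
    rintro _ ⟨t, rfl⟩
    rw [Scheme.Opens.range_ι]
    exact t.2.2)
  have hh : h ≫ A.ι = W.ι ≫ h₁ := IsOpenImmersion.lift_fac _ _ _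
  have hha : ∀ t, (h t).1 = h₁ t.1 := fun t => by
    show A.ι (h t) = _
    rw [← Scheme.Hom.comp_apply, hh]; rfl
  have : Surjective h := ⟨fun t => by
    obtain ⟨t', ht', htt⟩ := hAW t.2
    exact ⟨⟨t', ht', show h₁ t' ∈ A from htt ▸ t.2⟩, Subtype.ext ((hha _).trans htt)⟩⟩
  refine ⟨A.toScheme, W.toScheme, A.ι ≫ e, W.ι ≫ pullback.fst h₀ e, h, ⟨s', hsA⟩,
    ⟨y'', hy''W, show h₁ y'' ∈ A from hy''2 ▸ hsA⟩, hA, hWaff, ?_, ?_, ?_, ?_, ?_, ?_⟩
  · exact ⟨inferInstance, he.base_eq,
      residueFieldMap_bijective_comp A.ι e ⟨s', hsA⟩ he.residue_bijective⟩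
  · exact ⟨inferInstance, hy''1, residueFieldMap_bijective_comp W.ι (pullback.fst h₀ e) _
      (FlatMorQFSplit.fst_residueFieldMap_bijective h₀ he y'' hy''2)⟩
  · rw [Category.assoc, pullback.condition, reassoc_of% hh]
  · exact Subtype.ext ((hha _).trans hy''2)
  · have := smoothOfRelativeDimension_isStableUnderBaseChange (n := n)
    have hn₁ : SmoothOfRelativeDimension n h₁ := MorphismProperty.pullback_snd _ _ inferInstance
    have h2 := smoothOfRelativeDimension_comp W.ι h₁ (n := 0) (m := n)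
    rw [zero_add] at h2
    have hid : IsPullback (𝟙 W.toScheme) h (W.ι ≫ h₁) A.ι := by
      refine ⟨⟨by rw [Category.id_comp, hh]⟩, ⟨PullbackCone.IsLimit.mk _ (fun c => c.fst)
        (fun c => by simp) (fun c => ?_) (fun c m h1 _ => by simpa using h1)⟩⟩
      rw [← cancel_mono A.ι, Category.assoc, hh]
      exact c.condition
    exact MorphismProperty.of_isPullback hid h2
  · refine geometricallyIntegral_of_subset_sectionComponents p q h₁ b hsq σP hσP W ?_ A h hh
    intro t ht
    by_contra htE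
    exact (hW₀good ht.1) ⟨t, htE, rfl⟩

end Groth.Agent.FlatMorLocalStr
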