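import Groth.Agent.FlatMorLocalStr.Generic
import Groth.Agent.FlatMor12.ElemNbhd
import Groth.Prelude.Def_FlatCA

/-!
# Ring form of the local structure of finite type algebras, with purely transcendental residue field
-/

set_option autoImplicit false
set_option backward.isDefEq.respectTransparency false

universe u

open AlgebraicGeometry CategoryTheory Limits

namespace Groth.Agent.FlatMorLocalStr

theorem mapₐ_bijective_of_residueFieldMap {A B : Type u} [CommRing A] [CommRing B] [Algebra A B]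
    (p : Ideal A) [p.IsPrime] (P : Ideal B) [P.IsPrime] [P.LiesOver p]
    (h : Function.Bijective ((Spec.map (CommRingCat.ofHom (algebraMap A B))).residueFieldMap
      ⟨P, inferInstance⟩)) :
    Function.Bijective (Ideal.ResidueField.mapₐ p P (Algebra.ofId _ _) (P.over_def p)) := by
  obtain rfl : p = P.comap (algebraMap A B) := P.over_def p
  let R := CommRingCat.of A
  let R' := CommRingCat.of B
  let g : Spec R' ⟶ Spec R := Spec.map (CommRingCat.ofHom (algebraMap A B))
  let y : Spec R' := ⟨P, inferInstance⟩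
  let M : CommRingCat.of (g y).asIdeal.ResidueField ⟶ CommRingCat.of y.asIdeal.ResidueField :=
    CommRingCat.ofHom (Ideal.ResidueField.mapₐ (P.comap (algebraMap A B)) P (Algebra.ofId _ _)
      (P.over_def _)).toRingHom
  have hM : CommRingCat.ofHom (algebraMap R (g y).asIdeal.ResidueField) ≫ M =
      CommRingCat.ofHom (algebraMap A B) ≫ CommRingCat.ofHom (algebraMap R' y.asIdeal.ResidueField) := by
    ext a
    exact ((Ideal.ResidueField.mapₐ (P.comap (algebraMap A B)) P (Algebra.ofId A B)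
      (P.over_def _)).commutes a).trans (IsScalarTower.algebraMap_apply A B _ a)
  have key : g.residueFieldMap y =
      (Scheme.Spec.residueFieldIso R (g y)).hom ≫ M ≫ (Scheme.Spec.residueFieldIso R' y).inv := by
    rw [← Spec.map_inj, ← cancel_mono ((Spec R).fromSpecResidueField (g y)),
      Scheme.Hom.SpecMap_residueFieldMap_fromSpecResidueField,
      ← Scheme.Spec.map_residueFieldIso_inv_eq_fromSpecResidueField R',
      ← Scheme.Spec.map_residueFieldIso_inv_eq_fromSpecResidueField R]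
    dsimp only [g]
    rw [Category.assoc, ← Spec.map_comp, ← Spec.map_comp, ← Spec.map_comp, ← Spec.map_comp,
      ← hM]
    simp only [Category.assoc, Iso.inv_hom_id_assoc]
    rfl
  have hb : Function.Bijective (g.residueFieldMap y) := h
  rw [key] at hb
  have hb' : Function.Bijective ((Scheme.Spec.residueFieldIso R' y).inv ∘ M ∘
      (Scheme.Spec.residueFieldIso R (g y)).hom) := hb
  exact (Function.Bijective.of_comp_iff M
    (Scheme.Spec.residueFieldIso R (g y)).commRingCatIsoToRingEquiv.bijective).1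
    ((Function.Bijective.of_comp_iff'
      (Scheme.Spec.residueFieldIso R' y).symm.commRingCatIsoToRingEquiv.bijective _).1 hb')

/-- An elementary étale neighbourhood between affine schemes, in ring form. -/
theorem isEtaleNhd_of_isEtaleNbhd {A B : Type u} [CommRing A] [CommRing B] [Algebra A B]
    {Z : Scheme.{u}} (i : Z ⟶ Spec (CommRingCat.of B)) [IsIso i]
    (g : Z ⟶ Spec (CommRingCat.of A)) (hg : i ≫ Spec.map (CommRingCat.ofHom (algebraMap A B)) = g)
    (z : Z) (p : Ideal A) [p.IsPrime] (h : Hens2.IsEtaleNbhd g z ⟨p, inferInstance⟩) :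
    FlatCA.IsEtaleNhd A B p (i z).asIdeal := by
  obtain ⟨he, hb, hr⟩ := h
  subst hg
  have : Etale (Spec.map (CommRingCat.ofHom (algebraMap A B))) := by
    rw [show Spec.map (CommRingCat.ofHom (algebraMap A B)) =
      inv i ≫ i ≫ Spec.map (CommRingCat.ofHom (algebraMap A B)) by simp]
    infer_instance
  rw [Scheme.residueFieldMap_comp] at hr
  have hi : Function.Bijective (i.residueFieldMap z) :=
    (ConcreteCategory.isIso_iff_bijective _).1 (FlatMorThick.isIso_residueFieldMap i z)
  have hr' : Function.Bijective (i.residueFieldMap z ∘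
      (Spec.map (CommRingCat.ofHom (algebraMap A B))).residueFieldMap (i z)) := hr
  have hb2 := (Function.Bijective.of_comp_iff' hi _).1 hr'
  have hover : (i z).asIdeal.LiesOver p := ⟨(congrArg PrimeSpectrum.asIdeal hb).symm⟩
  exact ⟨RingHom.etale_algebraMap.1
    ((HasRingHomProperty.Spec_iff (P := @Etale)).1 this), hover,
    mapₐ_bijective_of_residueFieldMap p (i z).asIdeal hb2⟩

theorem exists_div_of_bijective {A B : Type u} [CommRing A] [CommRing B] [Algebra A B]
    (p : Ideal A) [p.IsPrime] (P : Ideal B) [P.IsPrime] [P.LiesOver p]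
    (h : Function.Surjective (Ideal.ResidueField.mapₐ p P (Algebra.ofId _ _) (P.over_def p)))
    (a : P.ResidueField) :
    ∃ b c : A, a = algebraMap A P.ResidueField b / algebraMap A P.ResidueField c := by
  obtain ⟨a, rfl⟩ := h a
  obtain ⟨b, c, -, rfl⟩ := IsFractionRing.div_surjective (A := A ⧸ p) a
  obtain ⟨b, rfl⟩ := Ideal.Quotient.mk_surjective b
  obtain ⟨c, rfl⟩ := Ideal.Quotient.mk_surjective c
  refine ⟨b, c, ?_⟩
  rw [map_div₀]
  congr 1 <;> exact AlgHom.commutes _ _

/-- A point of an algebra generated as a field by algebraically independent coordinates. -/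
theorem purelyTranscendental_of_coords {R R' D : Type u} [CommRing R] [CommRing R'] [CommRing D]
    [Algebra R R'] [Algebra R' D] [Algebra R D] [IsScalarTower R R' D]
    (p' : Ideal R') [p'.IsPrime] (y : Ideal D) [y.IsPrime] [y.LiesOver p']
    (hp' : ∀ a : p'.ResidueField, ∃ b c : R,
      a = algebraMap R p'.ResidueField b / algebraMap R p'.ResidueField c)
    {n r : ℕ} (hr : r ≤ n) (θ : MvPolynomial (Fin n) R →ₐ[R] D)
    (hX : ∀ i : Fin n, r ≤ i.1 → θ (MvPolynomial.X i) ∈ y)
    (hind : ∀ Q : MvPolynomial (Fin r) R, θ (MvPolynomial.rename (Fin.castLE hr) Q) ∈ y →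
      ∀ d, algebraMap R D (Q.coeff d) ∈ y)
    (hgen : ∀ a : y.ResidueField, ∃ b c,
      a = algebraMap D y.ResidueField (θ b) / algebraMap D y.ResidueField (θ c)) :
    FlatCA.PurelyTranscendental p' y := by
  let _ : Algebra p'.ResidueField y.ResidueField :=
    (Ideal.ResidueField.mapₐ p' y (Algebra.ofId R' D) (y.over_def p')).toRingHom.toAlgebra
  let ψ := algebraMap R p'.ResidueField
  have hψ : ∀ a, algebraMap p'.ResidueField y.ResidueField (ψ a) =
      algebraMap D y.ResidueField (algebraMap R D a) := fun a => by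
    simp only [ψ, IsScalarTower.algebraMap_apply R R' p'.ResidueField,
      IsScalarTower.algebraMap_apply R R' D]
    refine ((Ideal.ResidueField.mapₐ p' y (Algebra.ofId R' D) (y.over_def p')).commutes _).trans ?_
    exact IsScalarTower.algebraMap_apply R' D y.ResidueField _
  let χ : MvPolynomial (Fin n) R →+* y.ResidueField := (algebraMap D y.ResidueField).comp θ.toRingHom
  let x : ULift.{u} (Fin r) → y.ResidueField :=
    fun i => χ (MvPolynomial.X (Fin.castLE hr i.down))
  refine ⟨ULift.{u} (Fin r), x, ?_⟩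
  have hQ : ∀ Q : MvPolynomial (ULift.{u} (Fin r)) R,
      MvPolynomial.aeval x (MvPolynomial.map ψ Q) =
        χ (MvPolynomial.rename (fun i => Fin.castLE hr i.down) Q) := by
    have : ((MvPolynomial.aeval x).toRingHom.comp (MvPolynomial.map ψ)) =
        χ.comp (MvPolynomial.rename (R := R) fun i : ULift.{u} (Fin r) => Fin.castLE hr i.down).toRingHom := by
      refine MvPolynomial.ringHom_ext (fun a => ?_) fun i => ?_
      · simp [χ, hψ]
      · simp [x]
    exact fun Q => congr($this Q)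
  have halg : AlgebraicIndependent p'.ResidueField x := by
    rw [algebraicIndependent_iff]
    intro P hP
    obtain ⟨c, Q, hc, hQP⟩ := exists_smul_lift ψ hp' P
    have h0 : χ (MvPolynomial.rename (fun i => Fin.castLE hr i.down) Q) = 0 := by
      rw [← hQ, hQP, map_mul, hP, mul_zero]
    have hcoe : ∀ d, ψ (Q.coeff d) = 0 := by
      intro d
      have h1 : χ (MvPolynomial.rename (Fin.castLE hr) (MvPolynomial.rename ULift.down Q)) = 0 := by
        rw [MvPolynomial.rename_rename]
        exact h0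
      have h2 := hind _ (Ideal.algebraMap_residueField_eq_zero.1 h1) (d.mapDomain ULift.down)
      rw [MvPolynomial.coeff_rename_mapDomain _ ULift.down_injective] at h2
      refine (algebraMap p'.ResidueField y.ResidueField).injective ?_
      rw [hψ, map_zero]
      exact Ideal.algebraMap_residueField_eq_zero.2 h2
    have : MvPolynomial.map ψ Q = 0 := MvPolynomial.ext _ _ fun d => by
      rw [MvPolynomial.coeff_map, hcoe, MvPolynomial.coeff_zero]
    rw [this] at hQP
    exact (mul_eq_zero.1 hQP.symm).resolve_left (by simpa using hc)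
  let F := Algebra.adjoin p'.ResidueField (Set.range x)
  have hmem : ∀ b, χ b ∈ F := by
    intro b
    induction b using MvPolynomial.induction_on with
    | C a =>
      rw [show χ (MvPolynomial.C a) = algebraMap p'.ResidueField y.ResidueField (ψ a) by
        simp [χ, hψ]]
      exact F.algebraMap_mem _
    | add b c hb hc => rw [map_add]; exact F.add_mem hb hc
    | mul_X b i hb =>
      rw [map_mul]
      refine F.mul_mem hb ?_
      by_cases hi : i.1 < r
      · exact Algebra.subset_adjoin ⟨⟨⟨i.1, hi⟩⟩, rfl⟩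
      · rw [show χ (MvPolynomial.X i) = 0 from
          Ideal.algebraMap_residueField_eq_zero.2 (hX i (not_lt.1 hi))]
        exact F.zero_mem
  refine ⟨halg.isTranscendenceBasis_iff_isAlgebraic.2 ⟨fun a => ?_⟩, eq_top_iff.2 fun a _ => ?_⟩
  · obtain ⟨b, c, rfl⟩ := hgen a
    rw [div_eq_mul_inv]
    exact (isAlgebraic_algebraMap (⟨_, hmem b⟩ : F)).mul (isAlgebraic_algebraMap (⟨_, hmem c⟩ : F)).inv
  · obtain ⟨b, c, rfl⟩ := hgen a
    exact IntermediateField.div_mem _ (IntermediateField.algebra_adjoin_le_adjoin _ _ (hmem b))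
      (IntermediateField.algebra_adjoin_le_adjoin _ _ (hmem c))

/-- Bundling ring maps into the data of the ring form. -/
theorem exists_ring_data {R T : Type u} [CommRing R] [CommRing T] [Algebra R T]
    (p : Ideal R) [p.IsPrime] (q : Ideal T) [q.IsPrime] {n r : ℕ} (hr : r ≤ n)
    {R' T' D : CommRingCat.{u}} (φe : CommRingCat.of R ⟶ R') (φh : R' ⟶ D) (φπ : D ⟶ T')
    (φg : CommRingCat.of T ⟶ T') (θ : CommRingCat.of (MvPolynomial (Fin n) R) ⟶ D)
    (s' : Spec R') (y' : Spec D) (x' : Spec T')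
    (he : Hens2.IsEtaleNbhd (Spec.map φe) s' ⟨p, inferInstance⟩)
    (hg : Hens2.IsEtaleNbhd (Spec.map φg) x' ⟨q, inferInstance⟩)
    (hx : Spec.map φπ x' = y') (hys : Spec.map φh y' = s')
    (hc₁ : CommRingCat.ofHom (algebraMap R T) ≫ φg = φe ≫ φh ≫ φπ)
    (hc₂ : CommRingCat.ofHom (algebraMap R (MvPolynomial (Fin n) R)) ≫ θ = φe ≫ φh)
    (hfin : IsFinite (Spec.map φπ)) (huniq : ∀ z, Spec.map φπ z = y' → z = x')
    (hsm : SmoothOfRelativeDimension n (Spec.map φh)) (hgi : GeometricallyIntegral (Spec.map φh))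
    (hG : Function.Bijective ((Spec.map θ).residueFieldMap y'))
    (hX : ∀ i : Fin n, r ≤ i.1 → MvPolynomial.X i ∈ (Spec.map θ y').asIdeal)
    (hcoef : ∀ Q : MvPolynomial (Fin r) R,
      MvPolynomial.rename (Fin.castLE hr) Q ∈ (Spec.map θ y').asIdeal →
        ∀ d, MvPolynomial.C (Q.coeff d) ∈ (Spec.map θ y').asIdeal) :
    ∃ (R' T' D : Type u) (_ : CommRing R') (_ : CommRing T') (_ : CommRing D) (_ : Algebra R R')
      (_ : Algebra T T') (_ : Algebra R T') (_ : Algebra R' T') (_ : Algebra R' D) (_ : Algebra D T')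
      (_ : IsScalarTower R T T') (_ : IsScalarTower R R' T') (_ : IsScalarTower R' D T')
      (p' : Ideal R') (q' : Ideal T') (y : Ideal D) (_ : p'.IsPrime) (_ : q'.IsPrime) (_ : y.IsPrime)
      (_ : q'.LiesOver p') (_ : q'.LiesOver y) (_ : y.LiesOver p'),
      FlatCA.IsEtaleNhd R R' p p' ∧ FlatCA.IsEtaleNhd T T' q q' ∧ Module.Finite D T' ∧
      (∀ z : Ideal T', z.IsPrime → z.LiesOver y → z = q') ∧
      FlatCA.PurelyTranscendental p' y ∧ FlatCA.SmoothRelDim n R' D ∧
      FlatCA.GeomIntegralFibres R' D := by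
  algebraize [φe.hom, φh.hom, φπ.hom, φg.hom, φπ.hom.comp φh.hom]
  let _ : Algebra R T' := ((φπ.hom.comp φh.hom).comp φe.hom).toAlgebra
  have : IsScalarTower R R' T' := .of_algebraMap_eq' rfl
  have : IsScalarTower R T T' := .of_algebraMap_eq' (congrArg CommRingCat.Hom.hom hc₁).symm
  let _ : Algebra R D := (φh.hom.comp φe.hom).toAlgebra
  have : IsScalarTower R R' D := .of_algebraMap_eq' rfl
  let θₐ : MvPolynomial (Fin n) R →ₐ[R] D :=
    ⟨θ.hom, fun a => congr($(congrArg CommRingCat.Hom.hom hc₂) a)⟩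
  have hyp : y'.asIdeal.LiesOver s'.asIdeal := ⟨congrArg PrimeSpectrum.asIdeal hys.symm⟩
  have hqy : x'.asIdeal.LiesOver y'.asIdeal := ⟨congrArg PrimeSpectrum.asIdeal hx.symm⟩
  have hqp : x'.asIdeal.LiesOver s'.asIdeal := Ideal.LiesOver.trans x'.asIdeal y'.asIdeal s'.asIdeal
  have hnR : FlatCA.IsEtaleNhd R R' p s'.asIdeal :=
    isEtaleNhd_of_isEtaleNbhd (𝟙 (Spec R')) (Spec.map φe) (Category.id_comp _) s' _ he
  have hnT : FlatCA.IsEtaleNhd T T' q x'.asIdeal :=
    isEtaleNhd_of_isEtaleNbhd (𝟙 (Spec T')) (Spec.map φg) (Category.id_comp _) x' _ hg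
  refine ⟨R', T', D, inferInstance, inferInstance, inferInstance, inferInstance,
    inferInstance, inferInstance, inferInstance, inferInstance, inferInstance, inferInstance,
    inferInstance, inferInstance, s'.asIdeal, x'.asIdeal, y'.asIdeal, inferInstance, inferInstance,
    inferInstance, hqp, hqy, hyp, hnR, hnT, ?_, ?_, ?_, hsm, hgi⟩
  · exact (IsFinite.SpecMap_iff _).1 hfin
  · intro z hz hzy
    exact congrArg PrimeSpectrum.asIdeal
      (huniq ⟨z, hz⟩ (PrimeSpectrum.ext (hzy.over).symm))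
  · obtain ⟨-, hp'o, hp'b⟩ := hnR
    let _ := θ.hom.toAlgebra
    let P : Ideal (MvPolynomial (Fin n) R) := y'.asIdeal.comap θ.hom
    have : y'.asIdeal.LiesOver P := ⟨rfl⟩
    have hs := (mapₐ_bijective_of_residueFieldMap P y'.asIdeal hG).surjective
    refine purelyTranscendental_of_coords s'.asIdeal y'.asIdeal
      (exists_div_of_bijective p s'.asIdeal hp'b.surjective) hr θₐ hX ?_ fun a => ?_
    · intro Q hQ d
      rw [← θₐ.commutes]
      exact hcoef Q hQ d
    · obtain ⟨b, c, rfl⟩ := exists_div_of_bijective P y'.asIdeal hs a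
      exact ⟨b, c, rfl⟩

theorem isEtaleNbhd_iso_inv {X Z : Scheme.{u}} [IsAffine X] (e : X ⟶ Z) (x : X) (z : Z)
    (h : Hens2.IsEtaleNbhd e x z) :
    Hens2.IsEtaleNbhd (X.isoSpec.inv ≫ e) (X.isoSpec.hom x) z := by
  have := h.etale
  have hx : X.isoSpec.inv (X.isoSpec.hom x) = x := by
    rw [← Scheme.Hom.comp_apply, Iso.hom_inv_id]; rfl
  refine ⟨inferInstance, ?_, residueFieldMap_bijective_comp _ _ _ ?_⟩
  · rw [Scheme.Hom.comp_apply, hx]
    exact h.base_eq
  · rw [hx]
    exact h.residue_bijective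

/-- Passing from affine schemes to rings. -/
theorem exists_ring_data_of_affine {R T : Type u} [CommRing R] [CommRing T] [Algebra R T]
    (p : Ideal R) [p.IsPrime] (q : Ideal T) [q.IsPrime] {n r : ℕ} (hr : r ≤ n)
    {S' Y' X' : Scheme.{u}} [IsAffine S'] [IsAffine Y'] [IsAffine X']
    (e' : S' ⟶ Spec (.of R)) (h : Y' ⟶ S') (π : X' ⟶ Y') (g' : X' ⟶ Spec (.of T))
    (G : Y' ⟶ Spec (.of (MvPolynomial (Fin n) R))) (s' : S') (y' : Y') (x' : X')
    (he' : Hens2.IsEtaleNbhd e' s' ⟨p, inferInstance⟩)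
    (hg' : Hens2.IsEtaleNbhd g' x' ⟨q, inferInstance⟩)
    (hx2 : π x' = y') (hys : h y' = s')
    (hsq' : g' ≫ Spec.map (CommRingCat.ofHom (algebraMap R T)) = π ≫ h ≫ e')
    (hsq : G ≫ Spec.map (CommRingCat.ofHom (algebraMap R (MvPolynomial (Fin n) R))) = h ≫ e')
    (hπfin : IsFinite π) (huniq' : ∀ z, π z = y' → z = x')
    (hsmh : SmoothOfRelativeDimension n h) (hgi : GeometricallyIntegral h)
    (hG : Function.Bijective (G.residueFieldMap y'))
    (hX : ∀ i : Fin n, r ≤ i.1 → MvPolynomial.X i ∈ (G y').asIdeal)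
    (hcoef : ∀ Q : MvPolynomial (Fin r) R,
      MvPolynomial.rename (Fin.castLE hr) Q ∈ (G y').asIdeal →
        ∀ d, MvPolynomial.C (Q.coeff d) ∈ (G y').asIdeal) :
    ∃ (R' T' D : Type u) (_ : CommRing R') (_ : CommRing T') (_ : CommRing D) (_ : Algebra R R')
      (_ : Algebra T T') (_ : Algebra R T') (_ : Algebra R' T') (_ : Algebra R' D) (_ : Algebra D T')
      (_ : IsScalarTower R T T') (_ : IsScalarTower R R' T') (_ : IsScalarTower R' D T')
      (p' : Ideal R') (q' : Ideal T') (y : Ideal D) (_ : p'.IsPrime) (_ : q'.IsPrime) (_ : y.IsPrime)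
      (_ : q'.LiesOver p') (_ : q'.LiesOver y) (_ : y.LiesOver p'),
      FlatCA.IsEtaleNhd R R' p p' ∧ FlatCA.IsEtaleNhd T T' q q' ∧ Module.Finite D T' ∧
      (∀ z : Ideal T', z.IsPrime → z.LiesOver y → z = q') ∧
      FlatCA.PurelyTranscendental p' y ∧ FlatCA.SmoothRelDim n R' D ∧
      FlatCA.GeomIntegralFibres R' D := by
  obtain ⟨φe, hφe⟩ : ∃ φ, Spec.map φ = S'.isoSpec.inv ≫ e' := ⟨_, Spec.map_preimage _⟩
  obtain ⟨φh, hφh⟩ : ∃ φ, Spec.map φ = Y'.isoSpec.inv ≫ h ≫ S'.isoSpec.hom :=
    ⟨_, Spec.map_preimage _⟩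
  obtain ⟨φπ, hφπ⟩ : ∃ φ, Spec.map φ = X'.isoSpec.inv ≫ π ≫ Y'.isoSpec.hom :=
    ⟨_, Spec.map_preimage _⟩
  obtain ⟨φg, hφg⟩ : ∃ φ, Spec.map φ = X'.isoSpec.inv ≫ g' := ⟨_, Spec.map_preimage _⟩
  obtain ⟨θ, hθ⟩ : ∃ φ, Spec.map φ = Y'.isoSpec.inv ≫ G := ⟨_, Spec.map_preimage _⟩
  have hy0 : Y'.isoSpec.inv (Y'.isoSpec.hom y') = y' := by
    rw [← Scheme.Hom.comp_apply, Iso.hom_inv_id]; rfl
  have hθy : Spec.map θ (Y'.isoSpec.hom y') = G y' := by
    rw [hθ, Scheme.Hom.comp_apply, hy0]
  refine exists_ring_data p q hr φe φh φπ φg θ (S'.isoSpec.hom s') (Y'.isoSpec.hom y')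
    (X'.isoSpec.hom x') (hφe ▸ isEtaleNbhd_iso_inv e' s' _ he')
    (hφg ▸ isEtaleNbhd_iso_inv g' x' _ hg') ?_ ?_ ?_ ?_ ?_ ?_ ?_ ?_ ?_ (hθy ▸ hX)
    (hθy ▸ hcoef)
  · rw [hφπ, ← Scheme.Hom.comp_apply, Iso.hom_inv_id_assoc, Scheme.Hom.comp_apply, hx2]
  · rw [hφh, ← Scheme.Hom.comp_apply, Iso.hom_inv_id_assoc, Scheme.Hom.comp_apply, hys]
  · refine Spec.map_injective ?_
    simp only [Spec.map_comp, hφg, hφe, hφh, hφπ, Category.assoc, Iso.hom_inv_id_assoc]
    rw [hsq']
  · refine Spec.map_injective ?_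
    simp only [Spec.map_comp, hθ, hφe, hφh, Category.assoc, Iso.hom_inv_id_assoc]
    rw [hsq]
  · have := hπfin
    rw [hφπ]
    infer_instance
  · intro z hz
    rw [hφπ, Scheme.Hom.comp_apply, Scheme.Hom.comp_apply] at hz
    have hz1 := huniq' _ (Y'.isoSpec.hom.homeomorph.injective hz)
    rw [← hz1, ← Scheme.Hom.comp_apply, Iso.inv_hom_id]
    rfl
  · rw [hφh]
    exact (MorphismProperty.cancel_left_of_respectsIso (@SmoothOfRelativeDimension n) _ _).2
      ((MorphismProperty.cancel_right_of_respectsIso (@SmoothOfRelativeDimension n) _ _).2 hsmh)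
  · rw [hφh]
    exact (MorphismProperty.cancel_left_of_respectsIso @GeometricallyIntegral _ _).2
      ((MorphismProperty.cancel_right_of_respectsIso @GeometricallyIntegral _ _).2 hgi)
  · rw [hθ]
    exact residueFieldMap_bijective_comp _ G _ (by rw [hy0]; exact hG)

theorem exists_chart_ring {R T : Type u} [CommRing R] [CommRing T] [Algebra R T]
    [Algebra.FiniteType R T] (q : Ideal T) [q.IsPrime]
    (n : ℕ) (hd : ∀ q' : PrimeSpectrum T, q'.asIdeal ≤ q →
      q'.asIdeal.comap (algebraMap R T) = q.comap (algebraMap R T) → EGA43.FibDepth.trd R q' ≤ n) :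
    ∃ (φ : CommRingCat.of (MvPolynomial (Fin n) R) ⟶ CommRingCat.of T) (r : ℕ) (hr : r ≤ n),
      φ.hom.FiniteType ∧ (Spec.map φ).QuasiFiniteAt (⟨q, inferInstance⟩ : PrimeSpectrum T) ∧
      (∀ a, φ (MvPolynomial.C a) = algebraMap R T a) ∧
      (∀ i : Fin n, r ≤ i.1 → φ (MvPolynomial.X i) ∈ q) ∧
      ∀ Q : MvPolynomial (Fin r) R, φ (MvPolynomial.rename (Fin.castLE hr) Q) ∈ q →
        ∀ d, algebraMap R T (Q.coeff d) ∈ q := by
  let q₀ : PrimeSpectrum T := ⟨q, inferInstance⟩
  obtain ⟨vv, hqf, r, hr, hvq, hind⟩ := exists_coords (A := R) q₀ (n := n) hd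
  let φ : CommRingCat.of (MvPolynomial (Fin n) R) ⟶ CommRingCat.of T :=
    CommRingCat.ofHom (MvPolynomial.aeval vv).toRingHom
  have hft : φ.hom.FiniteType :=
    RingHom.FiniteType.of_comp_finiteType (f := algebraMap R _) (by
      convert RingHom.finiteType_algebraMap.2 ‹Algebra.FiniteType R T›
      ext a
      simp [φ])
  have hφC : ∀ a, φ (MvPolynomial.C a) = algebraMap R T a := fun a => by simp [φ]
  refine ⟨φ, r, hr, hft, quasiFiniteAt_specMap φ q₀ hqf, hφC, fun i hi => ?_, ?_⟩
  · simpa [φ] using hvq i hi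
  · intro Q hQ d
    let p := q.comap (algebraMap R T)
    let _ : Algebra p.ResidueField q.ResidueField :=
      (Ideal.ResidueField.map p q (algebraMap R T) rfl).toAlgebra
    have hcomp : ((MvPolynomial.aeval fun i : Fin r => algebraMap T q.ResidueField
        (vv (Fin.castLE hr i))).toRingHom.comp
        (MvPolynomial.map (algebraMap R p.ResidueField))) =
        ((algebraMap T q.ResidueField).comp φ.hom).comp
          (MvPolynomial.rename (R := R) (Fin.castLE hr)).toRingHom := by
      refine MvPolynomial.ringHom_ext (fun a => ?_) fun i => ?_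
      · simp [hφC, RingHom.algebraMap_toAlgebra]
      · simp [φ]
    have h0 : MvPolynomial.map (algebraMap R p.ResidueField) Q = 0 := by
      refine hind ?_
      rw [map_zero]
      refine (congr($hcomp Q)).trans ?_
      exact Ideal.algebraMap_residueField_eq_zero.2 hQ
    have h1 := congrArg (MvPolynomial.coeff d) h0
    rw [MvPolynomial.coeff_map, MvPolynomial.coeff_zero, Ideal.algebraMap_residueField_eq_zero] at h1
    exact h1

set_option maxHeartbeats 400000 in
/-- Ring form of the local structure theorem. -/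
theorem exists_ring_localStructure {R T : Type u} [CommRing R] [CommRing T] [Algebra R T]
    [Algebra.FiniteType R T] (p : Ideal R) [p.IsPrime] (q : Ideal T) [q.IsPrime] [q.LiesOver p]
    (n : ℕ) (hd : ∀ q' : PrimeSpectrum T, q'.asIdeal ≤ q →
      q'.asIdeal.comap (algebraMap R T) = p → EGA43.FibDepth.trd R q' ≤ n) :
    ∃ (R' T' D : Type u) (_ : CommRing R') (_ : CommRing T') (_ : CommRing D) (_ : Algebra R R')
      (_ : Algebra T T') (_ : Algebra R T') (_ : Algebra R' T') (_ : Algebra R' D) (_ : Algebra D T')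
      (_ : IsScalarTower R T T') (_ : IsScalarTower R R' T') (_ : IsScalarTower R' D T')
      (p' : Ideal R') (q' : Ideal T') (y : Ideal D) (_ : p'.IsPrime) (_ : q'.IsPrime) (_ : y.IsPrime)
      (_ : q'.LiesOver p') (_ : q'.LiesOver y) (_ : y.LiesOver p'),
      FlatCA.IsEtaleNhd R R' p p' ∧ FlatCA.IsEtaleNhd T T' q q' ∧ Module.Finite D T' ∧
      (∀ z : Ideal T', z.IsPrime → z.LiesOver y → z = q') ∧
      FlatCA.PurelyTranscendental p' y ∧ FlatCA.SmoothRelDim n R' D ∧
      FlatCA.GeomIntegralFibres R' D := by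
  obtain rfl : p = q.comap (algebraMap R T) := q.over_def p
  let q₀ : PrimeSpectrum T := ⟨q, inferInstance⟩
  obtain ⟨φ, r, hr, hft, hqf', hφC, hφX, hcoef⟩ := exists_chart_ring (R := R) q n hd
  have : LocallyOfFiniteType (Spec.map φ) :=
    (HasRingHomProperty.Spec_iff (P := @LocallyOfFiniteType)).2 hft
  obtain ⟨Y, g, y, hgy, W, v, hfin, hvW, hv, hvy, huniq⟩ :=
    Groth.Agent.FlatMorQFSplit.exists_split_unique (Spec.map φ) (x := q₀) rfl
      hqf'
  have := hgy.etale
  have := hfin
  obtain ⟨A, hA, hyA, -⟩ := exists_isAffineOpen_mem_and_subset (X := Y) (x := y) (U := ⊤) trivial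
  have : IsAffine A.toScheme := hA
  let gA : A.toScheme ⟶ Spec (CommRingCat.of (MvPolynomial (Fin n) R)) := A.ι ≫ g
  let y₀ : A.toScheme := ⟨y, hyA⟩
  have hgA : Function.Bijective (gA.residueFieldMap y₀) :=
    residueFieldMap_bijective_comp A.ι g y₀ hgy.residue_bijective
  let ι : CommRingCat.of R ⟶ CommRingCat.of (MvPolynomial (Fin n) R) :=
    CommRingCat.ofHom (algebraMap R (MvPolynomial (Fin n) R))
  let hAS : A.toScheme ⟶ Spec (.of R) := gA ≫ Spec.map ι
  have hsm : SmoothOfRelativeDimension n (Spec.map ι) := by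
    rw [HasRingHomProperty.Spec_iff (P := @SmoothOfRelativeDimension n)]
    exact RingHom.locally_of (RingHom.isStandardSmoothOfRelativeDimension_respectsIso (n := n)) _
      ((RingHom.isStandardSmoothOfRelativeDimension_algebraMap n).2
        (isStandardSmoothOfRelativeDimension_mvPolynomial _ n))
  have : SmoothOfRelativeDimension n hAS := by
    simpa using smoothOfRelativeDimension_comp gA (Spec.map ι) (n := 0) (m := n)
  have hgy₀ : gA y₀ = Spec.map φ q₀ := hgy.base_eq
  have hbase : hAS y₀ = (⟨q.comap (algebraMap R T), inferInstance⟩ : PrimeSpectrum R) := by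
    show Spec.map ι (gA y₀) = _
    rw [hgy₀]
    refine PrimeSpectrum.ext (Ideal.ext fun a => ?_)
    show φ (MvPolynomial.C a) ∈ q ↔ algebraMap R T a ∈ q
    rw [hφC]
  obtain ⟨S', Y', e', c, h, s', y', hS', hY', he', hc, hsq, hys, hsmh, hgi⟩ :=
    exists_geometricallyIntegral_nhd (n := n) hAS y₀
      (fun {Z} a _ z hz p p' hp hq hp' hq' => eq_of_coordinates (A := CommRingCat.of R) (n := n) ι
        (fun _ => rfl) gA y₀ hgA hr
        (fun i hi => by
          rw [hgy₀]
          show φ (MvPolynomial.X i) ∈ q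
          exact hφX i hi)
        (fun Q hQ d => by
          rw [hgy₀] at hQ ⊢
          show φ (MvPolynomial.C (Q.coeff d)) ∈ q
          rw [hφC]
          exact hcoef Q hQ d)
        a z hz p p' hp hq hp' hq')
  have := he'.etale
  have := hc.etale
  let c' : Y' ⟶ Y := c ≫ A.ι
  have hc'e : Hens2.IsEtaleNbhd c' y' y := by
    refine ⟨inferInstance, by show (c y').1 = y; rw [show c y' = y₀ from hc.base_eq], ?_⟩
    rw [Scheme.residueFieldMap_comp c A.ι]
    exact hc.residue_bijective.comp ((ConcreteCategory.isIso_iff_bijective _).1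
      (Groth.Agent.FlatMorThick.isIso_residueFieldMap A.ι (c y')))
  let π₁ : W.toScheme ⟶ Y := W.ι ≫ pullback.snd (Spec.map φ) g
  obtain ⟨x'', hx1, hx2⟩ := Scheme.Pullback.exists_preimage_pullback (f := π₁) (g := c')
    ⟨v, hvW⟩ y' (hvy.trans hc'e.base_eq.symm)
  let g' : pullback π₁ c' ⟶ Spec (.of T) :=
    pullback.fst π₁ c' ≫ W.ι ≫ pullback.fst (Spec.map φ) g
  have hπfin : IsFinite (pullback.snd π₁ c') := MorphismProperty.pullback_snd _ _ hfin
  have hg' : Hens2.IsEtaleNbhd g' x'' q₀ := by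
    refine ⟨inferInstance, ?_, ?_⟩
    · show pullback.fst (Spec.map φ) g ((pullback.fst π₁ c' x'').1) = q₀
      rw [hx1, hv]
    · rw [Scheme.residueFieldMap_comp (pullback.fst π₁ c')]
      refine (Groth.Agent.FlatMorQFSplit.fst_residueFieldMap_bijective π₁ hc'e x'' hx2).comp ?_
      have key : ∀ w : W.toScheme, w = ⟨v, hvW⟩ → Function.Bijective
          ((W.ι ≫ pullback.fst (Spec.map φ) g).residueFieldMap w) := ?_
      · exact key _ hx1
      rintro w rfl
      exact residueFieldMap_bijective_comp W.ι _ _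
        (Groth.Agent.FlatMorQFSplit.fst_residueFieldMap_bijective (Spec.map φ) hgy v hvy)
  have huniq' : ∀ z, pullback.snd π₁ c' z = y' → z = x'' := by
    intro z hz
    refine Groth.Agent.FlatMorQFSplit.eq_of_fst_eq π₁ hc'e z x'' hz hx2 ?_
    rw [hx1]
    refine Subtype.ext (huniq _ (pullback.fst π₁ c' z).2 ?_)
    show π₁ (pullback.fst π₁ c' z) = y
    rw [← Scheme.Hom.comp_apply, pullback.condition, Scheme.Hom.comp_apply, hz, hc'e.base_eq]
  have hsq' : g' ≫ Spec.map (CommRingCat.ofHom (algebraMap R T)) =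
      pullback.snd π₁ c' ≫ h ≫ e' := by
    have hι : CommRingCat.ofHom (algebraMap R T) = ι ≫ φ := by
      ext a
      exact (hφC a).symm
    rw [hι, Spec.map_comp, ← hsq]
    simp only [g', hAS, gA, Category.assoc]
    rw [pullback.condition_assoc]
    simpa [Category.assoc, π₁, c'] using congrArg (fun k => k ≫ g ≫ Spec.map ι)
      (pullback.condition : pullback.fst π₁ c' ≫ π₁ = _)
  have : IsAffine (pullback π₁ c') := isAffine_of_isAffineHom (pullback.snd π₁ c')
  have hy₀ : (c ≫ gA) y' = Spec.map φ q₀ := by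
    rw [Scheme.Hom.comp_apply, show c y' = y₀ from hc.base_eq, hgy₀]
  refine exists_ring_data_of_affine (q.comap (algebraMap R T)) q hr e' h (pullback.snd π₁ c') g' (c ≫ gA)
    s' y' x'' (hbase ▸ he') hg' hx2 hys hsq' ?_ hπfin huniq' hsmh hgi ?_ ?_ ?_
  · rw [← hsq]
    simp only [hAS, Category.assoc]
    rfl
  · rw [Scheme.residueFieldMap_comp]
    exact hc.residue_bijective.comp
      ((show ∀ w, w = y₀ → Function.Bijective (gA.residueFieldMap w) from fun w hw => hw ▸ hgA)
        _ hc.base_eq)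
  · intro i hi
    rw [hy₀]
    show φ (MvPolynomial.X i) ∈ q
    exact hφX i hi
  · intro Q hQ d
    rw [hy₀] at hQ ⊢
    show φ (MvPolynomial.C (Q.coeff d)) ∈ q
    rw [hφC]
    exact hcoef Q hQ d

end Groth.Agent.FlatMorLocalStr
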