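import Groth.Agent.FlatMorLocalStr.TensorPoint
import Groth.Agent.FlatMorLocalStr.Nbhd
import Groth.Agent.FlatMorLocalStr.Chart

/-!
# Generic points of coordinate subspaces have one point over each étale point of the base
-/

set_option autoImplicit false
set_option backward.isDefEq.respectTransparency false

universe u

open AlgebraicGeometry CategoryTheory Limits TensorProduct

namespace Groth.Agent.FlatMorLocalStr

/-- Two points of a fibre product over the same pair of points agree if the tensor product of the
residue fields has one prime. -/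
theorem eq_of_subsingleton_tensor {X Y S : Scheme.{u}} {f : X ⟶ S} {g : Y ⟶ S} {x : X} {y : Y}
    (h : ∀ T : Scheme.Pullback.Triplet f g, T.x = x → T.y = y → Subsingleton (Spec T.tensor))
    (p p' : ↑(pullback f g)) (hp : pullback.fst f g p = x) (hq : pullback.snd f g p = y)
    (hp' : pullback.fst f g p' = x) (hq' : pullback.snd f g p' = y) : p = p' := by
  obtain ⟨⟨T, t⟩, rfl⟩ := Scheme.Pullback.carrierEquiv.symm.surjective p
  obtain ⟨⟨T', t'⟩, rfl⟩ := Scheme.Pullback.carrierEquiv.symm.surjective p'
  rw [Scheme.Pullback.carrierEquiv_symm_fst] at hp hp'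
  rw [Scheme.Pullback.carrierEquiv_symm_snd] at hq hq'
  have := h T' hp' hq'
  exact congrArg _ (Scheme.Pullback.carrierEquiv_eq_iff.2
    ⟨Scheme.Pullback.Triplet.ext (hp.trans hp'.symm) (hq.trans hq'.symm), Subsingleton.elim _ _⟩)

/-- The pushout of fields is the tensor product. -/
theorem subsingleton_pushout {k K L : CommRingCat.{u}} (i : k ⟶ K) (j : k ⟶ L)
    (h : letI := i.hom.toAlgebra; letI := j.hom.toAlgebra; Subsingleton (PrimeSpectrum (K ⊗[k] L))) :
    Subsingleton (Spec (pushout i j)) := by
  let := i.hom.toAlgebra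
  let := j.hom.toAlgebra
  let e : CommRingCat.of (K ⊗[k] L) ≅ pushout i j :=
    (CommRingCat.isPushout_tensorProduct k K L).isoPushout
  exact @Equiv.subsingleton _ _ (Scheme.Spec.mapIso e.op).hom.homeomorph.toEquiv h

theorem finite_residueFieldMap {Z S : Scheme.{u}} (a : Z ⟶ S) [Etale a] (z : Z) :
    letI := (a.residueFieldMap z).hom.toAlgebra
    Module.Finite (S.residueField (a z)) (Z.residueField z) ∧
      Algebra.IsSeparable (S.residueField (a z)) (Z.residueField z) := by
  let := (a.residueFieldMap z).hom.toAlgebra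
  refine ⟨?_, inferInstance⟩
  algebraize [(a.stalkMap z).hom]
  have : IsLocalHom (algebraMap (S.presheaf.stalk (a z)) (Z.presheaf.stalk z)) :=
    inferInstanceAs <| IsLocalHom (a.stalkMap z).hom
  have : Algebra.EssFiniteType (S.presheaf.stalk (a z)) (Z.presheaf.stalk z) := by
    rw [← RingHom.essFiniteType_algebraMap, RingHom.algebraMap_toAlgebra]
    exact LocallyOfFiniteType.stalkMap a z
  have : Algebra.FormallyUnramified (S.presheaf.stalk (a z)) (Z.presheaf.stalk z) := by
    rw [← RingHom.formallyUnramified_algebraMap, RingHom.algebraMap_toAlgebra]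
    exact FormallyUnramified.stalkMap a z
  have h : Module.Finite (IsLocalRing.ResidueField <| S.presheaf.stalk (a z))
      (IsLocalRing.ResidueField <| Z.presheaf.stalk z) := inferInstance
  have h' : (algebraMap (IsLocalRing.ResidueField <| S.presheaf.stalk (a z))
      (IsLocalRing.ResidueField <| Z.presheaf.stalk z)).Finite := RingHom.finite_algebraMap.2 h
  have e : (a.residueFieldMap z).hom = algebraMap (IsLocalRing.ResidueField <| S.presheaf.stalk (a z))
      (IsLocalRing.ResidueField <| Z.presheaf.stalk z) := by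
    refine RingHom.ext fun x => ?_
    obtain ⟨x, rfl⟩ := IsLocalRing.residue_surjective (R := S.presheaf.stalk (a z)) x
    rfl
  have h'' : (a.residueFieldMap z).hom.Finite := e ▸ h'
  exact h''

/-- A morphism to an affine scheme with bijective residue map generates the residue field. -/
theorem exists_div {R : CommRingCat.{u}} {Z : Scheme.{u}} (g : Z ⟶ Spec R) (z : Z)
    (hb : Function.Bijective (g.residueFieldMap z)) (θ : R ⟶ Z.residueField z)
    (hθ : Spec.map θ = Z.fromSpecResidueField z ≫ g) (a : Z.residueField z) :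
    ∃ b c, a = θ b / θ c := by
  have e : θ = StructureSheaf.toStalk R (g z) ≫ (Spec R).residue (g z) ≫ g.residueFieldMap z := by
    refine Spec.map_injective ?_
    rw [hθ, Spec.map_comp, Spec.map_comp, ← Scheme.Hom.SpecMap_residueFieldMap_fromSpecResidueField,
      Category.assoc, Scheme.fromSpecResidueField, Spec.fromSpecStalk_eq']
  obtain ⟨a, rfl⟩ := hb.surjective a
  obtain ⟨o, rfl⟩ := (Spec R).residue_surjective (g z) a
  obtain ⟨⟨b, c⟩, hbc⟩ := IsLocalization.surj
    (S := (Spec.structureSheaf R).presheaf.stalk (g z)) (g z).asIdeal.primeCompl o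
  refine ⟨b, c.1, ?_⟩
  have hu : IsUnit ((StructureSheaf.toStalk R (g z)).hom c.1) :=
    IsLocalization.map_units ((Spec.structureSheaf R).presheaf.stalk (g z)) c
  subst e
  let φ : (Spec R).presheaf.stalk (g z) →+* Z.residueField z :=
    ((Spec R).residue (g z) ≫ g.residueFieldMap z).hom
  have this := (map_mul φ _ _).symm.trans (congrArg φ hbc)
  exact (eq_div_iff (hu.map φ).ne_zero).2 this

variable {A B : CommRingCat.{u}} {n : ℕ}

/-- The hypothesis of `exists_geometricallyIntegral_nhd` at a point over the generic point of a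
coordinate subspace. -/
theorem eq_of_coordinates {Y : Scheme.{u}} (ι : CommRingCat.of A ⟶ CommRingCat.of (MvPolynomial (Fin n) A))
    (hι : ∀ a, ι a = MvPolynomial.C a)
    (g : Y ⟶ Spec (CommRingCat.of (MvPolynomial (Fin n) A))) (y : Y)
    (hb : Function.Bijective (g.residueFieldMap y)) {r : ℕ} (hr : r ≤ n)
    (hX : ∀ i : Fin n, r ≤ i.1 → MvPolynomial.X i ∈ (g y).asIdeal)
    (hind : ∀ Q : MvPolynomial (Fin r) A, MvPolynomial.rename (Fin.castLE hr) Q ∈ (g y).asIdeal →
      ∀ d, MvPolynomial.C (Q.coeff d) ∈ (g y).asIdeal)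
    {Z : Scheme.{u}} (a : Z ⟶ Spec A) [Etale a] (z : Z) (hz : a z = (g ≫ Spec.map ι) y)
    (p p' : ↑(pullback (g ≫ Spec.map ι) a))
    (hp : pullback.fst (g ≫ Spec.map ι) a p = y) (hq : pullback.snd (g ≫ Spec.map ι) a p = z)
    (hp' : pullback.fst (g ≫ Spec.map ι) a p' = y) (hq' : pullback.snd (g ≫ Spec.map ι) a p' = z) :
    p = p' := by
  refine eq_of_subsingleton_tensor (fun T hTx hTy => ?_) p p' hp hq hp' hq'
  obtain ⟨tx, ty, s, hsx, hsy⟩ := T
  subst hTx hTy hsx
  refine subsingleton_pushout _ _ ?_
  let f := g ≫ Spec.map ι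
  let i := ((Spec A).residueFieldCongr (show f tx = f tx from rfl)).inv ≫ f.residueFieldMap tx
  let j := ((Spec A).residueFieldCongr hsy).inv ≫ a.residueFieldMap ty
  let := i.hom.toAlgebra
  let := j.hom.toAlgebra
  obtain ⟨h1, h2⟩ := finite_residueFieldMap a ty
  have hfin : Module.Finite ((Spec A).residueField (f tx)) (Z.residueField ty) := by
    show RingHom.Finite j.hom
    rw [show j.hom = (a.residueFieldMap ty).hom.comp ((Spec A).residueFieldCongr hsy).inv.hom from rfl]
    exact RingHom.Finite.comp (show (a.residueFieldMap ty).hom.Finite from h1)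
      (((Spec A).residueFieldCongr hsy).symm.commRingCatIsoToRingEquiv.finite)
  have hsep : Algebra.IsSeparable ((Spec A).residueField (f tx)) (Z.residueField ty) := by
    let := (a.residueFieldMap ty).hom.toAlgebra
    exact Algebra.IsSeparable.of_equiv_equiv
      ((Spec A).residueFieldCongr hsy).commRingCatIsoToRingEquiv (RingEquiv.refl _) (by
        ext c
        show (a.residueFieldMap ty).hom (((Spec A).residueFieldCongr hsy).inv.hom
          (((Spec A).residueFieldCongr hsy).hom.hom c)) = (a.residueFieldMap ty).hom c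
        exact congrArg _ (Iso.hom_inv_id_apply _ c))
  let θ : CommRingCat.of (MvPolynomial (Fin n) A) ⟶ Y.residueField tx :=
    Spec.preimage (Y.fromSpecResidueField tx ≫ g)
  have hθ : Spec.map θ = Y.fromSpecResidueField tx ≫ g := Spec.map_preimage _
  let ψ : A ⟶ (Spec A).residueField (f tx) :=
    StructureSheaf.toStalk A (f tx) ≫ (Spec A).residue (f tx)
  have hψ : Spec.map ψ = (Spec A).fromSpecResidueField (f tx) ≫ 𝟙 _ := by
    rw [Category.comp_id, Spec.map_comp, Scheme.fromSpecResidueField, Spec.fromSpecStalk_eq']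
  have hC : ι ≫ θ = ψ ≫ i := by
    refine Spec.map_injective ?_
    rw [Spec.map_comp, hθ, Spec.map_comp, hψ, Category.comp_id]
    simp only [i, Scheme.residueFieldCongr_refl, Iso.refl_inv, Category.id_comp]
    exact (Category.assoc _ _ _).trans (f.SpecMap_residueFieldMap_fromSpecResidueField tx).symm
  have hker : ∀ c, θ c = 0 ↔ c ∈ (g tx).asIdeal := by
    intro c
    have h1 : PrimeSpectrum.comap θ.hom (IsLocalRing.closedPoint (Y.residueField tx)) = g tx := by
      show Spec.map θ (IsLocalRing.closedPoint (Y.residueField tx)) = g tx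
      rw [hθ, Scheme.Hom.comp_apply, Scheme.fromSpecResidueField_apply]
    rw [← h1]
    show _ ↔ θ c ∈ IsLocalRing.maximalIdeal _
    rw [IsLocalRing.maximalIdeal_eq_bot, Ideal.mem_bot]
  refine subsingleton_of_coordinates ψ.hom ?_ hr θ.hom (exists_div g tx hb θ hθ) ?_ ?_ ?_
  · intro c
    exact exists_div (𝟙 (Spec A)) (f tx) (by rw [Scheme.residueFieldMap_id]; exact Function.bijective_id)
      ψ hψ c
  · intro c
    rw [← hι]
    exact congr($hC c)
  · intro i' hi'
    exact (hker _).2 (hX i' hi')
  · intro Q hQ d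
    have h1 := (hker _).2 (hind Q ((hker _).1 hQ) d)
    rw [← hι, ← CommRingCat.comp_apply, hC, CommRingCat.comp_apply] at h1
    exact (map_eq_zero i.hom).1 h1

end Groth.Agent.FlatMorLocalStr
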