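import Mathlib
import Groth.Agent.Desc19b.NormalSmooth

/-!
# Two sections of a smooth algebra over a valuation ring

If two sections meet the same connected component of the special fibre, they meet the same
connected component of the generic fibre.
-/

set_option autoImplicit false
set_option backward.isDefEq.respectTransparency false

universe u

open TensorProduct

namespace Groth.Agent.FlatMorLocalStr

/-- A specialisation of primes is realised by a valuation ring. -/
theorem exists_valuation {B : Type u} [CommRing B] (q' q : Ideal B) [q'.IsPrime] [q.IsPrime]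
    (h : q' ≤ q) :
    ∃ (V : ValuationSubring q'.ResidueField) (l : B →+* V),
      (IsLocalRing.maximalIdeal V).comap l = q ∧ (⊥ : Ideal V).comap l = q' := by
  let f : Localization.AtPrime q →+* q'.ResidueField :=
    IsLocalization.lift (M := q.primeCompl) (g := algebraMap B q'.ResidueField) fun y =>
      isUnit_iff_ne_zero.2 fun h0 => y.2 (h (Ideal.algebraMap_residueField_eq_zero.1 h0))
  obtain ⟨V, hV, hloc⟩ := IsLocalRing.exists_factor_valuationRing f
  let i : Localization.AtPrime q →+* V := f.codRestrict V.toSubring hV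
  have : IsLocalHom i := hloc
  refine ⟨V, i.comp (algebraMap B _), ?_, ?_⟩
  · rw [← Ideal.comap_comap, IsLocalRing.maximalIdeal_comap i]
    exact IsLocalization.AtPrime.under_maximalIdeal _ q
  · ext b
    have : ((i (algebraMap B (Localization.AtPrime q) b) : V) : q'.ResidueField) =
        algebraMap B q'.ResidueField b := by
      show f _ = _
      exact IsLocalization.lift_eq _ b
    rw [Ideal.mem_comap, Ideal.mem_bot, RingHom.comp_apply, ← Ideal.algebraMap_residueField_eq_zero,
      ← this]
    exact ⟨fun h => by rw [h]; rfl, fun h => Subtype.ext h⟩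

variable {W B : Type u} [CommRing W] [IsDomain W] [IsIntegrallyClosed W] [CommRing B] [Algebra W B]
  [Algebra.Smooth W B]

theorem finite_minimalPrimes_of_smooth (W : Type u) {B : Type u} [CommRing W] [IsDomain W]
    [CommRing B] [Algebra W B] [Algebra.Smooth W B] : (minimalPrimes B).Finite := by
  let K := FractionRing W
  have : IsNoetherianRing (K ⊗[W] B) := Algebra.FiniteType.isNoetherianRing K _
  have hinj : Function.Injective
      (Algebra.TensorProduct.includeRight : B →ₐ[W] K ⊗[W] B).toRingHom := by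
    have := Module.Flat.of_free (R := W) (M := W)
    exact Algebra.TensorProduct.includeRight_injective (IsFractionRing.injective W K)
  refine ((minimalPrimes.finite_of_isNoetherianRing (K ⊗[W] B)).image
    (Ideal.comap (Algebra.TensorProduct.includeRight : B →ₐ[W] K ⊗[W] B).toRingHom)).subset ?_
  intro p hp
  refine Ideal.minimalPrimes_comap_subset _ ⊥ ?_
  rwa [Ideal.comap_bot_of_injective _ hinj]

theorem minimalPrime_unique (W : Type u) {B : Type u} [CommRing W] [IsDomain W] [IsIntegrallyClosed W]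
    [CommRing B] [Algebra W B] [Algebra.Smooth W B] {P P' q : Ideal B} (hP : P ∈ minimalPrimes B) (hP' : P' ∈ minimalPrimes B)
    [q.IsPrime] (h : P ≤ q) (h' : P' ≤ q) : P = P' := by
  obtain ⟨hd, -⟩ := Desc19b.normal_localization_of_smooth W B q
  have hp := hP.1.1
  have hp' := hP'.1.1
  have key : ∀ {Q : Ideal B}, Q ∈ minimalPrimes B → Q ≤ q →
      Q = (⊥ : Ideal (Localization.AtPrime q)).comap (algebraMap B _) := by
    intro Q hQ hQq
    have hQp := hQ.1.1
    refine le_antisymm (hQ.2 ⟨Ideal.IsPrime.comap _, bot_le⟩ ?_) ?_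
    · intro x hx
      rw [Ideal.mem_comap, Ideal.mem_bot] at hx
      obtain ⟨⟨c, hc⟩, hcx⟩ := (IsLocalization.map_eq_zero_iff q.primeCompl _ x).1 hx
      exact (hQp.mem_or_mem (show c * x ∈ Q by rw [show c * x = 0 from hcx]; exact zero_mem _)).resolve_left
        fun h => hc (hQq h)
    · intro x hx
      rw [Ideal.mem_comap, Ideal.mem_bot] at hx
      obtain ⟨⟨c, hc⟩, hcx⟩ := (IsLocalization.map_eq_zero_iff q.primeCompl _ x).1 hx
      exact (hQp.mem_or_mem (show c * x ∈ Q by rw [show c * x = 0 from hcx]; exact zero_mem _)).resolve_left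
        fun h => hc (hQq h)
  rw [key hP h, key hP' h']

/-- Sections meeting in the special fibre up to connectedness meet in the generic fibre. -/
theorem connected_generic_of_connected_special [IsLocalRing W] (l s : B →ₐ[W] W)
    (h : PrimeSpectrum.comap l.toRingHom (IsLocalRing.closedPoint W) ∈ connectedComponentIn
      (PrimeSpectrum.comap (algebraMap W B) ⁻¹' {IsLocalRing.closedPoint W})
      (PrimeSpectrum.comap s.toRingHom (IsLocalRing.closedPoint W))) :
    PrimeSpectrum.comap l.toRingHom ⟨⊥, Ideal.isPrime_bot⟩ ∈ connectedComponentIn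
      (PrimeSpectrum.comap (algebraMap W B) ⁻¹' {⟨⊥, Ideal.isPrime_bot⟩})
      (PrimeSpectrum.comap s.toRingHom ⟨⊥, Ideal.isPrime_bot⟩) := by
  classical
  set C := connectedComponentIn
      (PrimeSpectrum.comap (algebraMap W B) ⁻¹' {IsLocalRing.closedPoint W})
      (PrimeSpectrum.comap s.toRingHom (IsLocalRing.closedPoint W)) with hCdef
  have hsec : ∀ (t : B →ₐ[W] W) (p : PrimeSpectrum W),
      PrimeSpectrum.comap (algebraMap W B) (PrimeSpectrum.comap t.toRingHom p) = p := fun t p => by
    refine PrimeSpectrum.ext (Ideal.ext fun x => ?_)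
    show t (algebraMap W B x) ∈ p.asIdeal ↔ _
    rw [AlgHom.commutes]
    rfl
  have hsC : PrimeSpectrum.comap s.toRingHom (IsLocalRing.closedPoint W) ∈ C :=
    mem_connectedComponentIn (hsec s _)
  obtain ⟨P, hP, hPs⟩ := Ideal.exists_minimalPrimes_le
    (I := (⊥ : Ideal B)) (J := (PrimeSpectrum.comap s.toRingHom (IsLocalRing.closedPoint W)).asIdeal)
    bot_le
  let others : Set (PrimeSpectrum B) :=
    ⋃ Q ∈ minimalPrimes B \ {P}, PrimeSpectrum.zeroLocus (Q : Set B)
  have hcl : IsClosed others :=
    (finite_minimalPrimes_of_smooth W).sdiff.isClosed_biUnion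
      fun Q _ => PrimeSpectrum.isClosed_zeroLocus _
  have hcompl : PrimeSpectrum.zeroLocus (P : Set B) = othersᶜ := by
    ext x
    simp only [others, Set.mem_compl_iff, Set.mem_iUnion, PrimeSpectrum.mem_zeroLocus,
      SetLike.coe_subset_coe, Set.mem_sdiff, Set.mem_singleton_iff, not_exists]
    refine ⟨fun hx Q hQ hQx => hQ.2 (minimalPrime_unique W hQ.1 hP hQx hx), fun hx => ?_⟩
    obtain ⟨Q, hQ, hQx⟩ := Ideal.exists_minimalPrimes_le (I := (⊥ : Ideal B)) (J := x.asIdeal) bot_le
    by_cases e : Q = P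
    · exact e ▸ hQx
    · exact absurd hQx (hx Q ⟨hQ, e⟩)
  have hclopen : IsClopen (PrimeSpectrum.zeroLocus (P : Set B)) :=
    ⟨PrimeSpectrum.isClosed_zeroLocus _, hcompl ▸ hcl.isOpen_compl⟩
  have hlP : P ≤ (PrimeSpectrum.comap l.toRingHom (IsLocalRing.closedPoint W)).asIdeal :=
    isPreconnected_connectedComponentIn.subset_isClopen hclopen
      ⟨_, hsC, (PrimeSpectrum.mem_zeroLocus _ _).2 hPs⟩ h
  have hgen : ∀ t : B →ₐ[W] W,
      P ≤ (PrimeSpectrum.comap t.toRingHom (IsLocalRing.closedPoint W)).asIdeal →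
      P ≤ (PrimeSpectrum.comap t.toRingHom ⟨⊥, Ideal.isPrime_bot⟩).asIdeal := fun t ht => by
    obtain ⟨Q, hQ, hQt⟩ := Ideal.exists_minimalPrimes_le (I := (⊥ : Ideal B))
      (J := (PrimeSpectrum.comap t.toRingHom ⟨⊥, Ideal.isPrime_bot⟩).asIdeal) bot_le
    exact minimalPrime_unique W hP hQ ht (hQt.trans (Ideal.comap_mono bot_le)) ▸ hQt
  let η : PrimeSpectrum B := ⟨P, hP.1.1⟩
  let G := PrimeSpectrum.comap (algebraMap W B) ⁻¹' {(⟨⊥, Ideal.isPrime_bot⟩ : PrimeSpectrum W)}
  have hη : η ∈ G := PrimeSpectrum.ext (le_bot_iff.1 fun a ha => by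
    have h1 := congrArg PrimeSpectrum.asIdeal (hsec s ⟨⊥, Ideal.isPrime_bot⟩)
    exact h1.le (hgen s hPs ha))
  have hpre : IsPreconnected (closure {η} ∩ G) :=
    isPreconnected_singleton.subset_closure (Set.singleton_subset_iff.2 ⟨subset_closure rfl, hη⟩)
      Set.inter_subset_left
  have hmem : ∀ t : B →ₐ[W] W,
      P ≤ (PrimeSpectrum.comap t.toRingHom (IsLocalRing.closedPoint W)).asIdeal →
      PrimeSpectrum.comap t.toRingHom ⟨⊥, Ideal.isPrime_bot⟩ ∈ closure {η} ∩ G := fun t ht =>
    ⟨specializes_iff_mem_closure.1 ((PrimeSpectrum.le_iff_specializes η _).1 (hgen t ht)), hsec t _⟩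
  exact hpre.subset_connectedComponentIn (hmem s hPs) Set.inter_subset_right (hmem l hlP)

end Groth.Agent.FlatMorLocalStr
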