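import Mathlib

/-!
# `K ⊗ L` for `K` purely transcendental and `L` finite separable
-/

set_option autoImplicit false

universe u

open TensorProduct Polynomial

namespace Groth.Agent.FlatMorLocalStr

/-- If `K` is generated as a field by finitely many algebraically independent elements and `L/k` is
finite separable, then `K ⊗[k] L` has only one prime. -/
theorem subsingleton_primeSpectrum_tensor {k K L : Type u} [Field k] [Field K] [Field L]
    [Algebra k K] [Algebra k L] [FiniteDimensional k L] [Algebra.IsSeparable k L] {r : ℕ}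
    (x : Fin r → K) (hx : AlgebraicIndependent k x)
    (hgen : ∀ a : K, ∃ P Q : MvPolynomial (Fin r) k, a = MvPolynomial.aeval x P / MvPolynomial.aeval x Q) :
    Subsingleton (PrimeSpectrum (K ⊗[k] L)) := by
  let pb := Field.powerBasisOfFiniteOfSeparable k L
  let p := minpoly k pb.gen
  have hp : p.Monic := minpoly.monic pb.isIntegral_gen
  have hirr : Irreducible p := minpoly.irreducible pb.isIntegral_gen
  let A := MvPolynomial (Fin r) k
  let _ : Algebra A K := (MvPolynomial.aeval x).toRingHom.toAlgebra
  have : FaithfulSMul A K := (faithfulSMul_iff_algebraMap_injective A K).2 hx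
  have : IsFractionRing A K := IsFractionRing.of_field (R := A) (K := K) hgen
  have h1 : Irreducible (p.map (MvPolynomial.C : k →+* A)) := by
    refine (hp.map _).irreducible_of_irreducible_map (MvPolynomial.constantCoeff) _ ?_
    rw [Polynomial.map_map, show (MvPolynomial.constantCoeff).comp (MvPolynomial.C : k →+* A) =
      RingHom.id k from RingHom.ext fun a => MvPolynomial.constantCoeff_C _ a, Polynomial.map_id]
    exact hirr
  have h2 : Irreducible (p.map (algebraMap k K)) := by
    have := ((hp.map (MvPolynomial.C : k →+* A)).irreducible_iff_irreducible_map_fraction_map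
      (K := K)).1 h1
    rwa [Polynomial.map_map, show (algebraMap A K).comp MvPolynomial.C = algebraMap k K from
      RingHom.ext fun a => MvPolynomial.aeval_C x a] at this
  let φ : K[X] →ₐ[K] K ⊗[k] L := Polynomial.aeval (1 ⊗ₜ[k] pb.gen)
  have hker : p.map (algebraMap k K) ∈ RingHom.ker φ := by
    rw [RingHom.mem_ker]
    show Polynomial.aeval _ (p.map (algebraMap k K)) = 0
    rw [Polynomial.aeval_map_algebraMap]
    have := Polynomial.aeval_algHom_apply (Algebra.TensorProduct.includeRight (R := k) (A := K) (B := L))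
      pb.gen p
    rw [minpoly.aeval, map_zero] at this
    exact this
  have hsurj : Function.Surjective φ := by
    intro z
    induction z with
    | zero => exact ⟨0, map_zero _⟩
    | tmul a b =>
      obtain ⟨f, rfl⟩ : ∃ f : k[X], b = Polynomial.aeval pb.gen f := by
        have hb : b ∈ Algebra.adjoin k ({pb.gen} : Set L) := by
          rw [pb.adjoin_gen_eq_top]; trivial
        rw [Algebra.adjoin_singleton_eq_range_aeval] at hb
        obtain ⟨f, hf⟩ := hb
        exact ⟨f, hf.symm⟩
      refine ⟨Polynomial.C a * f.map (algebraMap k K), ?_⟩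
      show Polynomial.aeval _ _ = _
      rw [map_mul, Polynomial.aeval_C, Polynomial.aeval_map_algebraMap,
        show (1 : K) ⊗ₜ[k] pb.gen = Algebra.TensorProduct.includeRight (R := k) (A := K) pb.gen from rfl,
        Polynomial.aeval_algHom_apply, Algebra.TensorProduct.algebraMap_apply]
      simp
    | add a b ha hb =>
      obtain ⟨f, rfl⟩ := ha
      obtain ⟨g, rfl⟩ := hb
      exact ⟨f + g, map_add _ _ _⟩
  have hmax : (Ideal.span {p.map (algebraMap k K)}).IsMaximal :=
    PrincipalIdealRing.isMaximal_of_irreducible h2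
  have hk : RingHom.ker φ = Ideal.span {p.map (algebraMap k K)} :=
    (hmax.eq_of_le (RingHom.ker_ne_top _) ((Ideal.span_singleton_le_iff_mem _).2 hker)).symm
  let e := RingHom.quotientKerEquivOfSurjective hsurj
  have : (RingHom.ker φ).IsMaximal := hk ▸ hmax
  refine ⟨fun a b => PrimeSpectrum.comap_injective_of_surjective _ hsurj ?_⟩
  refine PrimeSpectrum.ext ?_
  have key : ∀ c : PrimeSpectrum (K ⊗[k] L),
      (PrimeSpectrum.comap φ.toRingHom c).asIdeal = RingHom.ker φ := fun c =>
    (this.eq_of_le (PrimeSpectrum.comap φ.toRingHom c).isPrime.ne_top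
      (Ideal.comap_mono (f := φ.toRingHom) bot_le)).symm
  exact (key a).trans (key b).symm

theorem exists_smul_lift {A k : Type u} [CommRing A] [Field k] (ψ : A →+* k)
    (hψ : ∀ a : k, ∃ b c, a = ψ b / ψ c) {σ : Type*} (P : MvPolynomial σ k) :
    ∃ (c : A) (Q : MvPolynomial σ A), ψ c ≠ 0 ∧ MvPolynomial.map ψ Q = MvPolynomial.C (ψ c) * P := by
  induction P using MvPolynomial.induction_on' with
  | monomial d a =>
    obtain ⟨b, c, rfl⟩ := hψ a
    by_cases hc : ψ c = 0
    · exact ⟨1, 0, by simp, by simp [hc]⟩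
    · exact ⟨c, MvPolynomial.monomial d b, hc, by
        rw [MvPolynomial.map_monomial, MvPolynomial.C_mul_monomial, mul_div_cancel₀ _ hc]⟩
  | add P₁ P₂ h1 h2 =>
    obtain ⟨c₁, Q₁, hc₁, hQ₁⟩ := h1
    obtain ⟨c₂, Q₂, hc₂, hQ₂⟩ := h2
    refine ⟨c₁ * c₂, MvPolynomial.C c₂ * Q₁ + MvPolynomial.C c₁ * Q₂,
      by rw [map_mul]; exact mul_ne_zero hc₁ hc₂, ?_⟩
    simp only [map_add, map_mul, MvPolynomial.map_C, hQ₁, hQ₂]
    ring

/-- The one-prime criterion, in terms of a generic point of a coordinate subspace. -/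
theorem subsingleton_of_coordinates {A k K L : Type u} [CommRing A] [Field k] [Field K] [Field L]
    [Algebra k K] [Algebra k L] [FiniteDimensional k L] [Algebra.IsSeparable k L]
    (ψ : A →+* k) (hψ : ∀ a : k, ∃ b c, a = ψ b / ψ c) {n r : ℕ} (hr : r ≤ n)
    (θ : MvPolynomial (Fin n) A →+* K) (hθ : ∀ a : K, ∃ b c, a = θ b / θ c)
    (hC : ∀ a, θ (MvPolynomial.C a) = algebraMap k K (ψ a))
    (hX : ∀ i : Fin n, r ≤ i.1 → θ (MvPolynomial.X i) = 0)
    (hind : ∀ Q : MvPolynomial (Fin r) A, θ (MvPolynomial.rename (Fin.castLE hr) Q) = 0 →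
      ∀ d, ψ (Q.coeff d) = 0) :
    Subsingleton (PrimeSpectrum (K ⊗[k] L)) := by
  let x : Fin r → K := fun i => θ (MvPolynomial.X (Fin.castLE hr i))
  have hQ : ∀ Q : MvPolynomial (Fin r) A,
      MvPolynomial.aeval x (MvPolynomial.map ψ Q) = θ (MvPolynomial.rename (Fin.castLE hr) Q) := by
    have : ((MvPolynomial.aeval x).toRingHom.comp (MvPolynomial.map ψ)) =
        θ.comp (MvPolynomial.rename (R := A) (Fin.castLE hr)).toRingHom := by
      refine MvPolynomial.ringHom_ext (fun a => ?_) fun i => ?_
      · simp [hC]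
      · simp [x]
    exact fun Q => congr($this Q)
  refine subsingleton_primeSpectrum_tensor x (fun P₁ P₂ h => ?_) fun a => ?_
  · obtain ⟨c, Q, hc, hQP⟩ := exists_smul_lift ψ hψ (P₁ - P₂)
    have h0 : θ (MvPolynomial.rename (Fin.castLE hr) Q) = 0 := by
      rw [← hQ, hQP, map_mul, map_sub, h, sub_self, mul_zero]
    have : MvPolynomial.map ψ Q = 0 := MvPolynomial.ext _ _ fun d => by
      rw [MvPolynomial.coeff_map, hind Q h0 d, MvPolynomial.coeff_zero]
    rw [this] at hQP
    exact sub_eq_zero.1 ((mul_eq_zero.1 hQP.symm).resolve_left (by simpa using hc))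
  · obtain ⟨b, c, rfl⟩ := hθ a
    let sub : MvPolynomial (Fin n) A →+* MvPolynomial (Fin r) k :=
      MvPolynomial.eval₂Hom (MvPolynomial.C.comp ψ)
        fun i => if h : i.1 < r then MvPolynomial.X ⟨i.1, h⟩ else 0
    have hsub : ∀ f, θ f = MvPolynomial.aeval x (sub f) := by
      have : θ = (MvPolynomial.aeval x).toRingHom.comp sub := by
        refine MvPolynomial.ringHom_ext (fun a => ?_) fun i => ?_
        · simp [sub, hC]
        · by_cases h : i.1 < r
          · simp [sub, x, h]
          · simp [sub, h, hX i (not_lt.1 h)]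
      exact fun f => congr($this f)
    exact ⟨sub b, sub c, by rw [hsub, hsub]⟩

end Groth.Agent.FlatMorLocalStr
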